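import Cfsg.Agent.Lib.SuzType.Second.Std

/-!
The elliptic space of dimension six as the sum of three anisotropic planes: the centraliser of the rotation of one
plane in the orthogonal group, with its normal subgroup of order twenty-seven.
-/

set_option autoImplicit false
set_option maxRecDepth 100000
set_option synthInstance.maxSize 2048
set_option synthInstance.maxHeartbeats 200000

namespace CfsgLib.SuzType.ThreeY

open QuadraticMap CfsgLib.SuzType

/-- The partner of `e0`. -/
def f0 : V := Pi.single (.inl (.inr 0)) 1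

/-- The first plane. -/
def a1 : V := e0 + f0
/-- The first plane. -/
def b1 : V := e0 + e1 + f1
/-- The second plane. -/
def a2 : V := e1 + f1
/-- The second plane. -/
def b2 : V := e1 + e0 + f0

/-- The basis of the three planes. -/
def six : Fin 6 → V := ![a1, b1, a2, b2, d0, d1]

/-- The partner in a plane. -/
def pr : Fin 6 → Fin 6 := ![1, 0, 3, 2, 5, 4]

/-- Six vectors spanning three orthogonal anisotropic planes. -/
def IsSix (v : Fin 6 → V) : Prop :=
  (∀ i, qf (v i) = 1) ∧ ∀ i j, bf (v i) (v j) = if pr i = j then 1 else 0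

instance (v : Fin 6 → V) : Decidable (IsSix v) := by unfold IsSix; infer_instance

theorem six_isSix : IsSix six := by decide +kernel

theorem six_expand : ∀ x : V, x = bf x b1 • a1 + bf x a1 • b1 + bf x b2 • a2 + bf x a2 • b2 + bf x d1 • d0 +
    bf x d0 • d1 := by
  decide +kernel

/-- An isometry is known by its values on the six vectors. -/
theorem ext_six {g k : O6} (h : ∀ i, g.1 (six i) = k.1 (six i)) : g = k := by
  refine Subtype.ext (LinearEquiv.ext fun x => ?_)
  rw [six_expand x]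
  simp only [map_add, map_smul]
  rw [show g.1 a1 = k.1 a1 from h 0, show g.1 b1 = k.1 b1 from h 1, show g.1 a2 = k.1 a2 from h 2,
    show g.1 b2 = k.1 b2 from h 3, show g.1 d0 = k.1 d0 from h 4, show g.1 d1 = k.1 d1 from h 5]

theorem smul_bf (r : F2) (u w : V) : bf (r • u) w = r * bf u w ∧ bf u (r • w) = r * bf u w :=
  ⟨polar_smul_left qf r u w, polar_smul_right qf r u w⟩

theorem lc_qf {v : Fin 6 → V} (hv : IsSix v) (c : Fin 6 → F2) : qf (Fintype.linearCombination F2 v c) =
    c 0 * c 0 + c 1 * c 1 + c 0 * c 1 + c 2 * c 2 + c 3 * c 3 + c 2 * c 3 + c 4 * c 4 + c 5 * c 5 + c 4 * c 5 := by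
  simp only [Fintype.linearCombination_apply, Fin.sum_univ_six, qf_add, bf_add_left, QuadraticMap.map_smul,
    (smul_bf _ _ _).1, (smul_bf _ _ _).2, hv.1, hv.2, pr, smul_eq_mul]
  simp +decide
  ring

theorem lc_indep {v : Fin 6 → V} (hv : IsSix v) (c : Fin 6 → F2) (h : Fintype.linearCombination F2 v c = 0) :
    c = 0 := by
  funext j
  have e := congrArg (fun w => bf w (v (pr j))) h
  simp only [Fintype.linearCombination_apply, Fin.sum_univ_six, bf_add_left, (smul_bf _ _ _).1, hv.2,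
    bf_zero_left] at e
  fin_cases j <;> simpa [pr] using e

/-- Any six such vectors are images of the standard ones. -/
theorem exists_six {v : Fin 6 → V} (hv : IsSix v) : ∃ g : O6, ∀ i, g.1 (six i) = v i :=
  move six v (fun c h => lc_indep six_isSix c h) (fun c h => lc_indep hv c h) fun c => by
    rw [lc_qf six_isSix, lc_qf hv]

/-! ### Products of two reflections -/

/-- The product of two reflections as a map. -/
def rot (u v x : V) : V := x + bf x v • v + bf (x + bf x v • v) u • u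

theorem tr_mul_apply (u v : V) (hu : qf u = 1) (hv : qf v = 1) (x : V) :
    (tr u hu * tr v hv).1 x = rot u v x := by
  show (tr u hu).1 ((tr v hv).1 x) = _
  rw [tr_apply, tr_apply]; rfl

theorem pow_apply {g : O6} {f : V → V} (h : ∀ x, g.1 x = f x) : ∀ (n : ℕ) (x : V), (g ^ n).1 x = f^[n] x := by
  intro n
  induction n with
  | zero => intro x; rfl
  | succ n ih =>
    intro x
    rw [pow_succ', Function.iterate_succ_apply', ← ih, ← h]
    rfl

theorem conj_tr (g : O6) (a : V) (ha : qf a = 1) : g * tr a ha * g⁻¹ = tr (g.1 a) ((g.2 a).trans ha) := by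
  refine Subtype.ext (LinearEquiv.ext fun x => ?_)
  show g.1 ((tr a ha).1 (g.1.symm x)) = (tr (g.1 a) _).1 x
  rw [tr_apply, tr_apply, map_add, map_smul, LinearEquiv.apply_symm_apply, ← bf_map g (g.1.symm x) a,
    LinearEquiv.apply_symm_apply]

theorem six_q : qf a1 = 1 ∧ qf b1 = 1 ∧ qf a2 = 1 ∧ qf b2 = 1 ∧ qf d0 = 1 ∧ qf d1 = 1 := by decide +kernel

/-- The rotation of the third plane. -/
noncomputable def rho : O6 := tr d0 six_q.2.2.2.2.1 * tr d1 six_q.2.2.2.2.2
/-- The rotation of the first plane. -/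
noncomputable def r1 : O6 := tr a1 six_q.1 * tr b1 six_q.2.1
/-- The rotation of the second plane. -/
noncomputable def r2 : O6 := tr a2 six_q.2.2.1 * tr b2 six_q.2.2.2.1
/-- An element inverting the first two rotations. -/
noncomputable def sw : O6 := tr a1 six_q.1 * tr a2 six_q.2.2.1
/-- An element inverting the third rotation. -/
noncomputable def c0 : O6 := tr d0 six_q.2.2.2.2.1 * tr a1 six_q.1

theorem rho_apply (x : V) : rho.1 x = rot d0 d1 x := tr_mul_apply _ _ _ _ x
theorem r1_apply (x : V) : r1.1 x = rot a1 b1 x := tr_mul_apply _ _ _ _ x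
theorem r2_apply (x : V) : r2.1 x = rot a2 b2 x := tr_mul_apply _ _ _ _ x
theorem sw_apply (x : V) : sw.1 x = rot a1 a2 x := tr_mul_apply _ _ _ _ x
theorem c0_apply (x : V) : c0.1 x = rot d0 a1 x := tr_mul_apply _ _ _ _ x

theorem rho_mem : rho ∈ Om := tr_mul_mem _ _ _ _
theorem r1_mem : r1 ∈ Om := tr_mul_mem _ _ _ _
theorem r2_mem : r2 ∈ Om := tr_mul_mem _ _ _ _
theorem sw_mem : sw ∈ Om := tr_mul_mem _ _ _ _
theorem c0_mem : c0 ∈ Om := tr_mul_mem _ _ _ _

theorem rot_facts :
    (∀ l, rot d0 d1 (rot d0 d1 (rot d0 d1 (six l))) = six l ∧ rot a1 b1 (rot a1 b1 (rot a1 b1 (six l))) = six l ∧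
      rot a2 b2 (rot a2 b2 (rot a2 b2 (six l))) = six l) ∧
    (∀ l, rot d0 d1 (rot a1 b1 (six l)) = rot a1 b1 (rot d0 d1 (six l)) ∧
      rot d0 d1 (rot a2 b2 (six l)) = rot a2 b2 (rot d0 d1 (six l)) ∧
      rot a1 b1 (rot a2 b2 (six l)) = rot a2 b2 (rot a1 b1 (six l))) ∧
    (∀ l, rot a1 a2 (rot a1 b1 (six l)) = rot a1 b1 (rot a1 b1 (rot a1 a2 (six l))) ∧
      rot a1 a2 (rot d0 d1 (six l)) = rot d0 d1 (rot a1 a2 (six l)) ∧
      rot d0 a1 (rot d0 d1 (six l)) = rot d0 d1 (rot d0 d1 (rot d0 a1 (six l)))) ∧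
    rot d0 d1 d0 = d1 ∧ rot d0 d1 d1 = d0 + d1 ∧ rot a1 b1 a1 = b1 ∧ rot a2 b2 a2 = b2 := by
  decide +kernel

theorem rho_cube : rho ^ 3 = 1 := ext_six fun l => (pow_apply rho_apply 3 _).trans (rot_facts.1 l).1
theorem r1_cube : r1 ^ 3 = 1 := ext_six fun l => (pow_apply r1_apply 3 _).trans (rot_facts.1 l).2.1
theorem r2_cube : r2 ^ 3 = 1 := ext_six fun l => (pow_apply r2_apply 3 _).trans (rot_facts.1 l).2.2

theorem rho_r1 : rho * r1 = r1 * rho := ext_six fun l => by
  show rho.1 (r1.1 _) = r1.1 (rho.1 _)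
  rw [rho_apply, r1_apply, rho_apply, r1_apply]; exact (rot_facts.2.1 l).1

theorem rho_r2 : rho * r2 = r2 * rho := ext_six fun l => by
  show rho.1 (r2.1 _) = r2.1 (rho.1 _)
  rw [rho_apply, r2_apply, rho_apply, r2_apply]; exact (rot_facts.2.1 l).2.1

theorem r1_r2 : r1 * r2 = r2 * r1 := ext_six fun l => by
  show r1.1 (r2.1 _) = r2.1 (r1.1 _)
  rw [r1_apply, r2_apply, r1_apply, r2_apply]; exact (rot_facts.2.1 l).2.2

theorem sw_rho : sw * rho = rho * sw := ext_six fun l => by
  show sw.1 (rho.1 _) = rho.1 (sw.1 _)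
  rw [sw_apply, rho_apply, sw_apply, rho_apply]; exact (rot_facts.2.2.1 l).2.1

theorem sw_r1 : sw * r1 * sw⁻¹ = r1⁻¹ := by
  have e : sw * r1 = r1 * r1 * sw := ext_six fun l => by
    show sw.1 (r1.1 _) = r1.1 (r1.1 (sw.1 _))
    rw [sw_apply, r1_apply, sw_apply, r1_apply, r1_apply]; exact (rot_facts.2.2.1 l).1
  rw [e, mul_inv_cancel_right]
  exact eq_inv_of_mul_eq_one_left (by rw [mul_assoc, ← pow_three, r1_cube])

theorem c0_rho : c0 * rho * c0⁻¹ = rho⁻¹ := by
  have e : c0 * rho = rho * rho * c0 := ext_six fun l => by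
    show c0.1 (rho.1 _) = rho.1 (rho.1 (c0.1 _))
    rw [c0_apply, rho_apply, c0_apply, rho_apply, rho_apply]; exact (rot_facts.2.2.1 l).2.2
  rw [e, mul_inv_cancel_right]
  exact eq_inv_of_mul_eq_one_left (by rw [mul_assoc, ← pow_three, rho_cube])

/-- An isometry rotating the third plane and fixing its perpendicular is the rotation. -/
theorem eq_rho {g : O6} (h0 : g.1 d0 = d1) (h1 : g.1 d1 = d0 + d1)
    (hperp : ∀ v, bf v d0 = 0 → bf v d1 = 0 → g.1 v = v) : g = rho := by
  have hf : ∀ l : Fin 6, l ≠ 4 → l ≠ 5 → bf (six l) d0 = 0 ∧ bf (six l) d1 = 0 ∧ rot d0 d1 (six l) = six l := by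
    decide +kernel
  refine ext_six fun l => ?_
  rw [rho_apply]
  by_cases h4 : l = 4
  · subst h4; exact h0.trans rot_facts.2.2.2.1.symm
  by_cases h5 : l = 5
  · subst h5; exact h1.trans rot_facts.2.2.2.2.1.symm
  obtain ⟨u0, u1, u2⟩ := hf l h4 h5
  rw [u2]; exact hperp _ u0 u1

/-- A pair spanning an anisotropic plane can be taken to the third plane. -/
theorem move_pair {a b : V} (ha : qf a = 1) (hb : qf b = 1) (hab : bf a b = 1) :
    ∃ g ∈ Om, g.1 a = d0 ∧ g.1 b = d1 := by
  have hind : ∀ u v : V, qf u = 1 → qf v = 1 → bf u v = 1 →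
      ∀ c : Fin 2 → F2, Fintype.linearCombination F2 ![u, v] c = 0 → c = 0 := by
    intro u v hu hv huv c hc
    rw [Fintype.linearCombination_apply, Fin.sum_univ_two] at hc
    simp only [Matrix.cons_val_zero, Matrix.cons_val_one] at hc
    have h1 := congrArg (fun w => bf w v) hc
    simp only [bf_add_left, (smul_bf _ _ _).1, huv, bf_self, bf_zero_left, mul_zero, mul_one, add_zero] at h1
    have h2 := congrArg (fun w => bf w u) hc
    simp only [bf_add_left, (smul_bf _ _ _).1, bf_comm v u, huv, bf_self, bf_zero_left, mul_zero, mul_one,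
      zero_add] at h2
    funext i; fin_cases i <;> assumption
  obtain ⟨g, hg⟩ := move ![a, b] ![d0, d1] (hind a b ha hb hab)
    (hind d0 d1 six_q.2.2.2.2.1 six_q.2.2.2.2.2 std_facts.2.2.2.2.2.2.2.2.1) fun c => by
    simp only [Fintype.linearCombination_apply, Fin.sum_univ_two, Matrix.cons_val_zero, Matrix.cons_val_one,
      qf_add, QuadraticMap.map_smul, (smul_bf _ _ _).1, (smul_bf _ _ _).2, ha, hb, hab, six_q.2.2.2.2.1,
      six_q.2.2.2.2.2, std_facts.2.2.2.2.2.2.2.2.1]
  obtain ⟨k, hk, hfix⟩ := move_mem hg std_facts.2.2.2.2.1 fun i => by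
    fin_cases i
    · exact std_facts.2.2.2.2.2.2.2.2.2.2.1
    · exact std_facts.2.2.2.2.2.2.2.2.2.2.2.1
  exact ⟨k, hk, hfix 0, hfix 1⟩

/-- The product of the reflections of such a pair becomes the rotation. -/
theorem conj_pair {g : O6} {a b : V} (ha : qf a = 1) (hb : qf b = 1) (g0 : g.1 a = d0) (g1 : g.1 b = d1) :
    g * (tr a ha * tr b hb) * g⁻¹ = rho := by
  rw [show g * (tr a ha * tr b hb) * g⁻¹ = g * tr a ha * g⁻¹ * (g * tr b hb * g⁻¹) by group, conj_tr, conj_tr]
  simp only [g0, g1, rho]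

theorem r1_conj : ∃ g ∈ Om, g * r1 * g⁻¹ = rho := by
  obtain ⟨g, hg, g0, g1⟩ := move_pair six_q.1 six_q.2.1 (six_isSix.2 0 1)
  exact ⟨g, hg, conj_pair _ _ g0 g1⟩

/-! ### The vectors orthogonal to the third plane -/

/-- The vectors of norm one orthogonal to the third plane. -/
def A6 : List V := [a1, b1, a1 + b1, a2, b2, a2 + b2]

theorem A6_complete : ∀ v : V, bf v d0 = 0 → bf v d1 = 0 → qf v = 1 → v ∈ A6 := by decide +kernel

theorem A6_perp : ∀ v ∈ A6, bf v d0 = 0 ∧ bf v d1 = 0 ∧ qf v = 1 := by decide +kernel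

theorem rho_fix_iff : ∀ v : V, rot d0 d1 v = v ↔ bf v d0 = 0 ∧ bf v d1 = 0 := by decide +kernel

theorem rho_range : ∀ v : V, v + rot d0 d1 v = 0 ∨ v + rot d0 d1 v = d0 ∨ v + rot d0 d1 v = d1 ∨
    v + rot d0 d1 v = d0 + d1 := by decide +kernel

theorem perp_split : ∀ v : V, bf v d0 = 0 → bf v d1 = 0 → ∃ u ∈ [0, a1, b1, a1 + b1], ∃ w ∈ [0, a2, b2, a2 + b2],
    v = u + w := by decide +kernel

theorem perp_card : (Finset.univ.filter fun v : V => bf v d0 = 0 ∧ bf v d1 = 0).card = 16 := by decide +kernel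

theorem singular_card : (Finset.univ.filter fun v : V => qf v = 0 ∧ v ≠ 0).card = 27 := by decide +kernel

end CfsgLib.SuzType.ThreeY
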