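import Cfsg.Agent.Lib.SuzType.ThreeY.Image
import Cfsg.Agent.Lib.U43Type.OneSided
import Cfsg.Agent.Lib.UnitarySimple

/-!
Groups of Suzuki sporadic type: the centraliser of the element of order three is quasisimple with quotient of
U₄(3) type, given the recognition of the latter.
-/

set_option autoImplicit false
set_option linter.unusedSectionVars false
set_option maxRecDepth 100000

universe u

namespace CfsgLib.SuzType.ThreeY

open Cfsg CfsgLib.SuzType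
open CfsgLib.HallJankoType (mem_cent conj_fix_iff)
open scoped commutatorElement

/-- The recognition of `U₄(3)` by the centraliser of an involution. -/
def Recog (K : Type) [Field K] [Fintype K] : Prop :=
  ∀ (X : Type u) [Group X] [Finite X] (z : X) (_ : orderOf z = 2)
    (H₁ H₂ : Subgroup (Subgroup.centralizer ({z} : Set X)))
    (_ : H₁ ⊔ H₂ = Subgroup.closure {x : Subgroup.centralizer ({z} : Set X) | Odd (orderOf x)})
    (_ : (H₁.subgroupOf (H₁ ⊔ H₂)).Normal) (_ : (H₂.subgroupOf (H₁ ⊔ H₂)).Normal)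
    (_ : H₁ ≃* Matrix.SpecialLinearGroup (Fin 2) (ZMod 3)) (_ : H₂ ≃* Matrix.SpecialLinearGroup (Fin 2) (ZMod 3))
    (_ : (H₁ ⊓ H₂).map (Subgroup.subtype (Subgroup.centralizer ({z} : Set X))) = Subgroup.zpowers z)
    (Q : Subgroup (Subgroup.centralizer ({z} : Set X))) (_ : Q.Normal)
    (_ : Q = (Cfsg.pCore 2 ↥(H₁ ⊔ H₂)).map (Subgroup.subtype (H₁ ⊔ H₂)))
    (_ : Cfsg.generalizedFittingSubgroup (Subgroup.centralizer ({z} : Set X)) = Q)
    (_ : ∃ g : X, (∃ hq : g * z * g⁻¹ ∈ Subgroup.centralizer ({z} : Set X),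
      (⟨g * z * g⁻¹, hq⟩ : Subgroup.centralizer ({z} : Set X)) ∈ Q) ∧ g * z * g⁻¹ ≠ z)
    (_ : Nat.card ↥(Subgroup.centralizer ({z} : Set X)) = 2 ^ 7 * 3 ^ 2)
    (_ : ∀ g : X, g * z * g⁻¹ ∈ Q.map (Subgroup.subtype (Subgroup.centralizer ({z} : Set X))) →
      g * z * g⁻¹ ≠ z →
      Nat.card ↥((Q.map (Subgroup.subtype (Subgroup.centralizer ({z} : Set X)))) ⊓
        (Q.map (Subgroup.subtype (Subgroup.centralizer ({z} : Set X)))).map (MulAut.conj g).toMonoidHom) = 4),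
    Nonempty (X ≃* Cfsg.PSU 4 K 3)

variable {G : Type u} [Group G] [Finite G] {z y y₁ y₂ : G} {Q : Subgroup G} {π : G → V} {M : G → O6}
variable {C : Subgroup G} {X : Type u} [Group X] [Finite X] {f : C →* X} {zC : C}

namespace Cfg3

variable (Cf : Cfg3 z y y₁ y₂ Q π M) (Pj : Proj z y C f zC)
include Cf Pj

theorem quotient_iso {K : Type} [Field K] [Fintype K] (hrec : Recog.{u} K) :
    Nonempty (X ≃* Cfsg.PSU 4 K 3) := by
  obtain ⟨e₁⟩ := Cf.iso1 Pj
  obtain ⟨e₂⟩ := Cf.iso2 Pj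
  exact hrec X (f zC) (Pj.zX_two Cf.base) _ _ (Cf.odd_closure Pj) (Cf.im_normal_sup Pj).1 (Cf.im_normal_sup Pj).2
    e₁ e₂ (Cf.meet Pj) (Pj.im (Qu Q y)) (Cf.imQu_normal Pj) (Cf.pCore_eq Pj) (Cf.gfit_eq Pj) (Cf.exists_other Pj)
    (by rw [Pj.card_cent Cf.base]; norm_num) (fun x hx hne => Cf.inter_card Pj x hx hne)

/-- A quaternion pair centralising `y₁`. -/
theorem exists_pair : ∃ q r : C, f q * f q = f zC ∧ f r * f r = f zC ∧
    f ⟨y₁, Pj.Kz_le Cf.p1.mem⟩ * f q = f q * f ⟨y₁, Pj.Kz_le Cf.p1.mem⟩ ∧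
    f ⟨y₁, Pj.Kz_le Cf.p1.mem⟩ * f r = f r * f ⟨y₁, Pj.Kz_le Cf.p1.mem⟩ ∧ f q * f r ≠ f r * f q := by
  have h := Cf.base.st
  obtain ⟨q, hq, hqπ⟩ := h.π_surj a2
  obtain ⟨r, hr, hrπ⟩ := h.π_surj b2
  have hq2 : q ∈ Cf.p2.qp := ⟨hq, by rw [hqπ]; exact Or.inr (Or.inl rfl)⟩
  have hr2 : r ∈ Cf.p2.qp := ⟨hr, by rw [hrπ]; exact Or.inr (Or.inr (Or.inl rfl))⟩
  have sqz : ∀ (c : G), c ∈ Q → QuadraticMap.toFun qf (π c) = (1 : F2) → c * c = z := fun c hc hc1 =>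
    (h.es.sq c hc).resolve_left fun e => by
      rw [show QuadraticMap.toFun qf (π c) = qf (π c) from rfl, (h.sq c hc).mp e] at hc1
      exact zero_ne_one hc1
  have hqC := Pj.Kz_le (Cf.base.Qu_le (Cf.p2.qp_le hq2))
  have hrC := Pj.Kz_le (Cf.base.Qu_le (Cf.p2.qp_le hr2))
  refine ⟨⟨q, hqC⟩, ⟨r, hrC⟩, ?_, ?_, ?_, ?_, ?_⟩
  · rw [← map_mul]
    exact congrArg f (Subtype.ext ((sqz q hq (by rw [hqπ]; exact six_q.2.2.1)).trans Pj.zC.symm))
  · rw [← map_mul]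
    exact congrArg f (Subtype.ext ((sqz r hr (by rw [hrπ]; exact six_q.2.2.2.1)).trans Pj.zC.symm))
  · rw [← map_mul, ← map_mul]
    exact congrArg f (Subtype.ext (Cf.comm_L Cf.p1.w_L (Cf.p2.qp_le_L hq2)))
  · rw [← map_mul, ← map_mul]
    exact congrArg f (Subtype.ext (Cf.comm_L Cf.p1.w_L (Cf.p2.qp_le_L hr2)))
  · intro e
    rw [← map_mul, ← map_mul] at e
    obtain ⟨i, hi⟩ := Pj.eq_iff.mp e
    have hi' : q * r = r * q * y ^ i := hi
    have hyQ : y ^ i ∈ Q := by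
      rw [show y ^ i = (r * q)⁻¹ * (q * r) by rw [hi']; group]
      exact mul_mem (inv_mem (mul_mem hr hq)) (mul_mem hq hr)
    rw [Cf.base.pow_y_Q hyQ, mul_one] at hi'
    have := (h.comm q hq r hr).mp hi'
    rw [hqπ, hrπ, show QuadraticMap.polar qf a2 b2 = 1 from six_isSix.2 2 3] at this
    exact one_ne_zero this

/-- The centraliser of `y` is perfect. -/
theorem perfect [IsSimpleGroup X] : commutator C = ⊤ := by
  classical
  obtain ⟨q, r, hq2, hr2, hqc, hrc, hne⟩ := Cf.exists_pair Pj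
  have hcX : commutator X = ⊤ := by
    refine (IsSimpleGroup.eq_bot_or_eq_top_of_normal (commutator X) inferInstance).resolve_left fun e => hne ?_
    rw [← commutatorElement_eq_one_iff_mul_comm, ← Subgroup.mem_bot, ← e]
    exact Subgroup.commutator_mem_commutator (Subgroup.mem_top _) (Subgroup.mem_top _)
  set D := commutator C with hD
  have hmap : D.map f = ⊤ := by
    rw [hD, commutator_def, Subgroup.map_commutator, Subgroup.map_top_of_surjective f Pj.surj, ← commutator_def, hcX]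
  let yC : C := ⟨y, (Pj.mem y).mpr rfl⟩
  by_cases hy : yC ∈ D
  · refine eq_top_iff.mpr fun g _ => ?_
    obtain ⟨d, hd, hdg⟩ : f g ∈ D.map f := hmap ▸ Subgroup.mem_top _
    obtain ⟨i, hi⟩ := Pj.eq_iff.mp hdg.symm
    rw [show g = d * yC ^ i from Subtype.ext hi]
    exact mul_mem hd (pow_mem hy i)
  exfalso
  -- otherwise the derived group is a copy of the quotient
  have hinj : Function.Injective (f.comp D.subtype) := by
    refine (injective_iff_map_eq_one _).mpr fun d hd => ?_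
    obtain ⟨i, hi⟩ := (Pj.ker _).mp hd
    have hi' : (d : C) = yC ^ i := Subtype.ext hi
    by_contra h1
    refine hy ?_
    have hm : yC ^ i ∈ D := hi' ▸ d.2
    have hy3 : yC ^ 3 = 1 := Subtype.ext Cf.base.y3
    rcases (show i % 3 = 0 ∨ i % 3 = 1 ∨ i % 3 = 2 by omega) with e | e | e
    · exact absurd (Subtype.ext (hi'.trans (by rw [pow_eq_pow_mod i hy3, e, pow_zero]; rfl))) h1
    · rwa [pow_eq_pow_mod i hy3, e, pow_one] at hm
    · have h4 := pow_mem hm 2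
      rwa [← pow_mul, pow_eq_pow_mod _ hy3, Nat.mul_mod, e, pow_one] at h4
  have hsurj : Function.Surjective (f.comp D.subtype) := fun x => by
    obtain ⟨d, hd, rfl⟩ : x ∈ D.map f := hmap ▸ Subgroup.mem_top _
    exact ⟨⟨d, hd⟩, rfl⟩
  let E := MulEquiv.ofBijective _ ⟨hinj, hsurj⟩
  let y1C : C := ⟨y₁, Pj.Kz_le Cf.p1.mem⟩
  have hy1 : y1C ∈ D := by
    obtain ⟨c, hc, hce⟩ := Cf.y1_inverter
    have hm : ⁅(⟨c, Pj.Kz_le hc⟩ : C), y1C⁆ ∈ D := Subgroup.commutator_mem_commutator (Subgroup.mem_top _) (Subgroup.mem_top _)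
    have e : ⁅(⟨c, Pj.Kz_le hc⟩ : C), y1C⁆ = y1C := Subtype.ext (by
      show c * y₁ * c⁻¹ * y₁⁻¹ = y₁
      rw [hce]
      calc y₁⁻¹ * y₁⁻¹ = (y₁ ^ 3)⁻¹ * y₁ := by group
        _ = y₁ := by rw [Cf.p1.cube, inv_one, one_mul])
    rwa [e] at hm
  -- the derived group of the centraliser in the quotient
  obtain ⟨e₁⟩ := Cf.iso1 Pj
  obtain ⟨e₂⟩ := Cf.iso2 Pj
  haveI := Cf.imQu_normal Pj
  obtain ⟨f₁, f₂, F⟩ := CfsgU43Type.exists_frame (f zC) (Pj.zX_two Cf.base) _ _ (Cf.odd_closure Pj)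
    (Cf.im_normal_sup Pj).1 (Cf.im_normal_sup Pj).2 e₁ e₂ (Cf.meet Pj) (Pj.im (Qu Q y)) (Cf.pCore_eq Pj)
    (Cf.gfit_eq Pj) (Cf.exists_other Pj) (by rw [Pj.card_cent Cf.base]; norm_num) (fun x hx hne => Cf.inter_card Pj x hx hne)
  obtain ⟨φ, Dt⟩ := CfsgU43Type.exists_data F (Pj.zX_two Cf.base)
  obtain ⟨B, θ, a, a', Db⟩ := Dt.exists_base
  obtain ⟨O, vw, W⟩ := Db.exists_wData
  have hw : f y1C ∈ ⁅Subgroup.centralizer ({f y1C} : Set X), Subgroup.centralizer ({f y1C} : Set X)⁆ := by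
    refine W.mem_derived Db ?_ ?_ ?_ hq2 hr2 hqc hrc hne
    · rw [← map_mul, ← map_mul]
      exact congrArg f (Subtype.ext (show y₁ * (zC : G) = (zC : G) * y₁ by rw [Pj.zC]; exact Cf.p1.wz))
    · rw [← map_pow]
      exact (Pj.ker _).mpr ⟨0, by simpa [y1C] using Cf.p1.cube⟩
    · intro e
      obtain ⟨i, hi⟩ := (Pj.ker _).mp e
      have hi' : y₁ = y ^ i := hi
      have h1 := Cf.L1_y Pj (i := i) (hi' ▸ Cf.p1.w_L)
      rw [h1] at hi'
      exact Cf.p1.Mw_ne (by rw [hi', Cf.base.st.M_one])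
  let g : X →* G := (C.subtype.comp D.subtype).comp E.symm.toMonoidHom
  have hgy : g (f y1C) = y₁ := by
    show ((E.symm (f y1C) : D) : C).1 = y₁
    rw [show f y1C = E ⟨y1C, hy1⟩ from rfl, MulEquiv.symm_apply_apply]
  have hle : (Subgroup.centralizer ({f y1C} : Set X)).map g ≤ Subgroup.centralizer ({y₁} : Set G) := by
    rintro _ ⟨c, hc, rfl⟩
    refine mem_cent.mpr ?_
    rw [← hgy, ← map_mul, ← map_mul, mem_cent.mp hc]
  have hy1G : y₁ ∈ ⁅Subgroup.centralizer ({y₁} : Set G), Subgroup.centralizer ({y₁} : Set G)⁆ := by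
    have hm := Subgroup.mem_map_of_mem g hw
    rw [Subgroup.map_commutator, hgy] at hm
    exact Subgroup.commutator_mono hle hle hm
  obtain ⟨c, hc⟩ := Cf.y1_conj
  have hle2 : (Subgroup.centralizer ({y₁} : Set G)).map (MulAut.conj c).toMonoidHom ≤ C := by
    rintro _ ⟨d, hd, rfl⟩
    refine (Pj.mem _).mpr ?_
    show c * d * c⁻¹ * y = y * (c * d * c⁻¹)
    rw [← hc, show c * d * c⁻¹ * (c * y₁ * c⁻¹) = c * (d * y₁) * c⁻¹ by group, mem_cent.mp hd]
    group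
  have hm := Subgroup.mem_map_of_mem (MulAut.conj c).toMonoidHom hy1G
  rw [Subgroup.map_commutator] at hm
  have hyG : y ∈ ⁅C, C⁆ := by
    rw [← hc]
    exact Subgroup.commutator_mono hle2 hle2 hm
  rw [← C.map_subtype_commutator] at hyG
  obtain ⟨d, hd, hdy⟩ := hyG
  exact hy (show yC ∈ D from (show d = yC from Subtype.ext hdy) ▸ hd)

end Cfg3

end CfsgLib.SuzType.ThreeY
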