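import Cfsg.Agent.Lib.SuzType.ThreeY.Rot

/-!
The group of order twenty-seven generated by the three rotations.
-/

set_option autoImplicit false
set_option maxRecDepth 100000
set_option synthInstance.maxSize 2048
set_option synthInstance.maxHeartbeats 200000

namespace CfsgLib.SuzType.ThreeY

open QuadraticMap CfsgLib.SuzType

/-! ### The three rotations -/

/-- The product of powers of the three rotations. -/
noncomputable def rel (i j k : ℕ) : O6 := rho ^ i * r1 ^ j * r2 ^ k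

theorem rel_mul (i j k i' j' k' : ℕ) : rel i j k * rel i' j' k' = rel (i + i') (j + j') (k + k') := by
  have c1 : Commute rho r1 := rho_r1
  have c2 : Commute rho r2 := rho_r2
  have c3 : Commute r1 r2 := r1_r2
  simp only [rel, pow_add]
  have d1 : Commute (r1 ^ j * r2 ^ k) (rho ^ i') :=
    Commute.mul_left (c1.symm.pow_pow j i') (c2.symm.pow_pow k i')
  have d2 : Commute (r2 ^ k) (r1 ^ j') := c3.symm.pow_pow k j'
  calc rho ^ i * r1 ^ j * r2 ^ k * (rho ^ i' * r1 ^ j' * r2 ^ k')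
      = rho ^ i * ((r1 ^ j * r2 ^ k) * rho ^ i') * (r1 ^ j' * r2 ^ k') := by group
    _ = rho ^ i * rho ^ i' * r1 ^ j * (r2 ^ k * r1 ^ j') * r2 ^ k' := by rw [d1.eq]; group
    _ = _ := by rw [d2.eq]; group

theorem rel_mod (i j k : ℕ) : rel i j k = rel (i % 3) (j % 3) (k % 3) := by
  simp only [rel, ← pow_eq_pow_mod _ rho_cube, ← pow_eq_pow_mod _ r1_cube, ← pow_eq_pow_mod _ r2_cube]

theorem rel_zero : rel 0 0 0 = 1 := by simp [rel]

theorem rel_cube (i j k : ℕ) : rel i j k ^ 3 = 1 := by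
  rw [pow_three, rel_mul, rel_mul, rel_mod, show (i + (i + i)) % 3 = 0 by omega, show (j + (j + j)) % 3 = 0 by omega,
    show (k + (k + k)) % 3 = 0 by omega, rel_zero]

theorem rel_gens : rel 1 0 0 = rho ∧ rel 0 1 0 = r1 ∧ rel 0 0 1 = r2 := by simp [rel]

theorem rel_apply (i j k : ℕ) (x : V) :
    (rel i j k).1 x = (rot d0 d1)^[i] ((rot a1 b1)^[j] ((rot a2 b2)^[k] x)) := by
  rw [← pow_apply rho_apply, ← pow_apply r1_apply, ← pow_apply r2_apply]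
  rfl

theorem rel_vals : ∀ i j k : Fin 3,
    (rot d0 d1)^[i.1] ((rot a1 b1)^[j.1] ((rot a2 b2)^[k.1] a1)) = (rot a1 b1)^[j.1] a1 ∧
    (rot d0 d1)^[i.1] ((rot a1 b1)^[j.1] ((rot a2 b2)^[k.1] b1)) = rot a1 b1 ((rot a1 b1)^[j.1] a1) ∧
    (rot d0 d1)^[i.1] ((rot a1 b1)^[j.1] ((rot a2 b2)^[k.1] a2)) = (rot a2 b2)^[k.1] a2 ∧
    (rot d0 d1)^[i.1] ((rot a1 b1)^[j.1] ((rot a2 b2)^[k.1] b2)) = rot a2 b2 ((rot a2 b2)^[k.1] a2) ∧
    (rot d0 d1)^[i.1] ((rot a1 b1)^[j.1] ((rot a2 b2)^[k.1] d0)) = (rot d0 d1)^[i.1] d0 ∧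
    (rot d0 d1)^[i.1] ((rot a1 b1)^[j.1] ((rot a2 b2)^[k.1] d1)) = rot d0 d1 ((rot d0 d1)^[i.1] d0) := by
  decide +kernel

theorem iter_inj : ∀ i i' : Fin 3, ((rot d0 d1)^[i.1] d0 = (rot d0 d1)^[i'.1] d0 → i = i') ∧
    ((rot a1 b1)^[i.1] a1 = (rot a1 b1)^[i'.1] a1 → i = i') ∧
    ((rot a2 b2)^[i.1] a2 = (rot a2 b2)^[i'.1] a2 → i = i') := by
  decide +kernel

theorem rel_inj {i j k i' j' k' : ℕ} (h : rel i j k = rel i' j' k') :
    i % 3 = i' % 3 ∧ j % 3 = j' % 3 ∧ k % 3 = k' % 3 := by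
  rw [rel_mod i, rel_mod i'] at h
  have m : ∀ n : ℕ, n % 3 < 3 := fun n => Nat.mod_lt _ (by norm_num)
  have hv : ∀ x : V, (rot d0 d1)^[i % 3] ((rot a1 b1)^[j % 3] ((rot a2 b2)^[k % 3] x)) =
      (rot d0 d1)^[i' % 3] ((rot a1 b1)^[j' % 3] ((rot a2 b2)^[k' % 3] x)) := fun x => by
    rw [← rel_apply, ← rel_apply, h]
  obtain ⟨u0, -, u2, -, u4, -⟩ := rel_vals ⟨_, m i⟩ ⟨_, m j⟩ ⟨_, m k⟩
  obtain ⟨w0, -, w2, -, w4, -⟩ := rel_vals ⟨_, m i'⟩ ⟨_, m j'⟩ ⟨_, m k'⟩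
  exact ⟨congrArg Fin.val ((iter_inj _ _).1 (u4.symm.trans ((hv d0).trans w4))),
    congrArg Fin.val ((iter_inj _ _).2.1 (u0.symm.trans ((hv a1).trans w0))),
    congrArg Fin.val ((iter_inj _ _).2.2 (u2.symm.trans ((hv a2).trans w2)))⟩

/-- The group generated by the three rotations. -/
noncomputable def Rg : Subgroup O6 where
  carrier := {g | ∃ i j k, g = rel i j k}
  one_mem' := ⟨0, 0, 0, rel_zero.symm⟩
  mul_mem' := by
    rintro _ _ ⟨i, j, k, rfl⟩ ⟨i', j', k', rfl⟩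
    exact ⟨_, _, _, rel_mul i j k i' j' k'⟩
  inv_mem' := by
    rintro _ ⟨i, j, k, rfl⟩
    refine ⟨i + i, j + j, k + k, inv_eq_of_mul_eq_one_right ?_⟩
    rw [← rel_mul, ← pow_three, rel_cube]

theorem mem_Rg {g : O6} : g ∈ Rg ↔ ∃ i j k, g = rel i j k := Iff.rfl

theorem Rg_le_Crho : Rg ≤ Crho := by
  rintro _ ⟨i, j, k, rfl⟩
  refine mem_Crho.mpr ?_
  rw [← rel_gens.1, rel_mul, rel_mul, add_comm i, add_comm j, add_comm k]

theorem Rg_le_Om : Rg ≤ Om := by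
  rintro _ ⟨i, j, k, rfl⟩
  exact mul_mem (mul_mem (pow_mem rho_mem i) (pow_mem r1_mem j)) (pow_mem r2_mem k)

theorem card_Rg : Nat.card Rg = 27 := by
  have hbij : Function.Bijective
      (fun t : Fin 3 × Fin 3 × Fin 3 => (⟨rel t.1 t.2.1 t.2.2, _, _, _, rfl⟩ : Rg)) := by
    refine ⟨fun t t' e => ?_, ?_⟩
    · obtain ⟨h1, h2, h3⟩ := rel_inj (congrArg Subtype.val e)
      refine Prod.ext (Fin.ext ?_) (Prod.ext (Fin.ext ?_) (Fin.ext ?_)) <;> omega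
    · rintro ⟨_, i, j, k, rfl⟩
      exact ⟨⟨⟨i % 3, Nat.mod_lt _ (by norm_num)⟩, ⟨j % 3, Nat.mod_lt _ (by norm_num)⟩,
        ⟨k % 3, Nat.mod_lt _ (by norm_num)⟩⟩, Subtype.ext (rel_mod i j k).symm⟩
  rw [← Nat.card_eq_of_bijective _ hbij]
  simp

theorem rot_cases : ∀ u ∈ A6, ∀ v ∈ A6, bf u v = 1 → ∃ j k : Fin 3, ∀ l,
    rot u v (six l) = (rot d0 d1)^[0] ((rot a1 b1)^[j.1] ((rot a2 b2)^[k.1] (six l))) := by
  decide +kernel

/-- The conjugates of the first two rotations under the centraliser. -/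
theorem conj_rot {g : O6} (hg : g ∈ Crho) {a b : V} (ha : a ∈ A6) (hb : b ∈ A6) (qa : qf a = 1) (qb : qf b = 1)
    (hab : bf a b = 1) : ∃ j k : ℕ, g * (tr a qa * tr b qb) * g⁻¹ = rel 0 j k := by
  obtain ⟨j, k, h⟩ := rot_cases _ (Crho_A6 hg ha) _ (Crho_A6 hg hb) ((bf_map g a b).trans hab)
  refine ⟨j.1, k.1, ?_⟩
  rw [show g * (tr a qa * tr b qb) * g⁻¹ = g * tr a qa * g⁻¹ * (g * tr b qb * g⁻¹) by group, conj_tr, conj_tr]
  exact ext_six fun l => (tr_mul_apply _ _ _ _ _).trans ((h l).trans (rel_apply 0 _ _ _).symm)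

theorem conj_r1 {g : O6} (hg : g ∈ Crho) : ∃ j k : ℕ, g * r1 * g⁻¹ = rel 0 j k :=
  conj_rot hg A6_mem.1 A6_mem.2.1 _ _ (six_isSix.2 0 1)

theorem conj_r2 {g : O6} (hg : g ∈ Crho) : ∃ j k : ℕ, g * r2 * g⁻¹ = rel 0 j k :=
  conj_rot hg A6_mem.2.2.1 A6_mem.2.2.2 _ _ (six_isSix.2 2 3)

theorem Rg_conj {g r : O6} (hg : g ∈ Crho) (hr : r ∈ Rg) : g * r * g⁻¹ ∈ Rg := by
  obtain ⟨i, j, k, rfl⟩ := hr
  obtain ⟨j1, k1, e1⟩ := conj_r1 hg
  obtain ⟨j2, k2, e2⟩ := conj_r2 hg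
  rw [show g * rel i j k * g⁻¹ = (g * rho * g⁻¹) ^ i * (g * r1 * g⁻¹) ^ j * (g * r2 * g⁻¹) ^ k by
    rw [conj_pow, conj_pow, conj_pow, rel]; group]
  refine mul_mem (mul_mem (pow_mem ?_ i) (pow_mem ?_ j)) (pow_mem ?_ k)
  · rw [mem_Crho.mp hg, mul_inv_cancel_right]; exact ⟨1, 0, 0, rel_gens.1.symm⟩
  · exact ⟨0, j1, k1, e1⟩
  · exact ⟨0, j2, k2, e2⟩

theorem moved_orbit : (∀ v ∈ A6, rot a1 b1 v ≠ v → ∃ j : Fin 3, v = (rot a1 b1)^[j.1] a1) ∧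
    (∀ v ∈ A6, rot a2 b2 v ≠ v → ∃ k : Fin 3, v = (rot a2 b2)^[k.1] a2) ∧
    (∀ v : V, v = d0 ∨ v = d1 ∨ v = d0 + d1 → ∃ i : Fin 3, v = (rot d0 d1)^[i.1] d0) := by
  decide +kernel

/-- An element commuting with the three rotations is one of their products. -/
theorem mem_Rg_of_comm {g : O6} (hg : g ∈ Crho) (h1 : g * r1 = r1 * g) (h2 : g * r2 = r2 * g) : g ∈ Rg := by
  have c1 : ∀ x, g.1 (rot a1 b1 x) = rot a1 b1 (g.1 x) := fun x => by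
    rw [← r1_apply, ← r1_apply]; exact LinearEquiv.congr_fun (congrArg Subtype.val h1) x
  have c2 : ∀ x, g.1 (rot a2 b2 x) = rot a2 b2 (g.1 x) := fun x => by
    rw [← r2_apply, ← r2_apply]; exact LinearEquiv.congr_fun (congrArg Subtype.val h2) x
  have n1 : rot a1 b1 a1 ≠ a1 ∧ rot a2 b2 a2 ≠ a2 := by decide +kernel
  obtain ⟨j, ej⟩ := moved_orbit.1 _ (Crho_A6 hg A6_mem.1) fun e => n1.1 (g.1.injective ((c1 a1).trans e))
  obtain ⟨k, ek⟩ := moved_orbit.2.1 _ (Crho_A6 hg A6_mem.2.2.1) fun e => n1.2 (g.1.injective ((c2 a2).trans e))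
  obtain ⟨i, ei⟩ := moved_orbit.2.2 _ (Crho_third hg)
  refine ⟨i.1, j.1, k.1, ext_six fun l => ?_⟩
  rw [rel_apply]
  obtain ⟨k0, k1, k2, k3, k4, k5⟩ := rel_vals i j k
  fin_cases l
  · exact ej.trans k0.symm
  · show g.1 b1 = _
    rw [← rot_facts.2.2.2.2.2.1, c1, ej]; exact k1.symm.trans (by rw [rot_facts.2.2.2.2.2.1]; rfl)
  · exact ek.trans k2.symm
  · show g.1 b2 = _
    rw [← rot_facts.2.2.2.2.2.2, c2, ek]; exact k3.symm.trans (by rw [rot_facts.2.2.2.2.2.2]; rfl)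
  · exact ei.trans k4.symm
  · show g.1 d1 = _
    rw [← rot_facts.2.2.2.1, Crho_comm hg, ei]; exact k5.symm.trans (by rw [rot_facts.2.2.2.1]; rfl)

/-- An element of the centraliser fixing the perpendicular of the third plane is a power of the rotation. -/
theorem rho_pow_of_fix {g : O6} (hg : g ∈ Crho) (h : ∀ v, bf v d0 = 0 → bf v d1 = 0 → g.1 v = v) :
    ∃ i, g = rho ^ i := by
  obtain ⟨i, ei⟩ := moved_orbit.2.2 _ (Crho_third hg)
  have hperp : ∀ l : Fin 6, l ≠ 4 → l ≠ 5 → bf (six l) d0 = 0 ∧ bf (six l) d1 = 0 ∧ rot d0 d1 (six l) = six l := by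
    decide +kernel
  refine ⟨i.1, ext_six fun l => ?_⟩
  rw [pow_apply rho_apply]
  by_cases h4 : l = 4
  · subst h4; exact ei
  by_cases h5 : l = 5
  · subst h5
    show g.1 d1 = (rot d0 d1)^[i.1] d1
    calc g.1 d1 = g.1 (rot d0 d1 d0) := by rw [rot_facts.2.2.2.1]
      _ = rot d0 d1 ((rot d0 d1)^[i.1] d0) := by rw [Crho_comm hg, ei]
      _ = (rot d0 d1)^[i.1] (rot d0 d1 d0) := by
          rw [← Function.iterate_succ_apply' (rot d0 d1), Function.iterate_succ_apply (rot d0 d1)]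
      _ = _ := congrArg _ rot_facts.2.2.2.1
  obtain ⟨u0, u1, u2⟩ := hperp l h4 h5
  rw [h _ u0 u1, Function.iterate_fixed u2]

end CfsgLib.SuzType.ThreeY
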