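import Cfsg.Agent.Lib.SuzType.ThreeY.Factor
import Cfsg.Agent.Lib.SuzType.ThreeY.Three

/-!
Groups of Suzuki sporadic type: the centraliser of the central involution and of the element of order three,
with its two factors of type `SL₂(3)`.
-/

set_option autoImplicit false
set_option linter.unusedSectionVars false
set_option maxRecDepth 100000
set_option synthInstance.maxSize 2048

universe u

namespace CfsgLib.SuzType.ThreeY

open QuadraticMap CfsgLib.SuzType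
open CfsgLib.HallJankoType (mem_cent conj_fix_iff)

variable {G : Type u} [Group G] [Finite G] {z y y₁ y₂ : G} {Q : Subgroup G} {π : G → V} {M : G → O6}

/-- The two planes with their elements of order three. -/
structure Cfg3 (z y y₁ y₂ : G) (Q : Subgroup G) (π : G → V) (M : G → O6) : Prop where
  p1 : Pl z y Q π M a1 b1 y₁
  p2 : Pl z y Q π M a2 b2 y₂
  comm : y₁ * y₂ = y₂ * y₁

namespace Y3

variable (T : Y3 z y Q π M)
include T

theorem M_Kz {g : G} (hg : g ∈ Kz z y) : M g ∈ Crho ⊓ Om := by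
  refine ⟨mem_Crho.mpr ?_, T.st.M_mem g (Kz_z hg)⟩
  rw [← T.My, ← T.st.M_mul _ _ (Kz_z hg) T.yz, ← T.st.M_mul _ _ T.yz (Kz_z hg), (mem_Kz.mp hg).2]

theorem exists_Kz {g : O6} (hg : g ∈ Crho ⊓ Om) : ∃ c ∈ Kz z y, M c = g := by
  obtain ⟨c, hc, rfl⟩ := T.st.M_surj g hg.2
  obtain ⟨c', hc', hM, hcy⟩ := lift_cent T.st (Subgroup.centralizer ({z} : Set G)) (fun d hd => mem_cent.mp hd)
    (mem_cent.mpr T.yz) T.y3 T.My_ne (mem_cent.mpr hc) (by rw [T.My]; exact mem_Crho.mp hg.1)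
  exact ⟨c', mem_Kz.mpr ⟨mem_cent.mp hc', hcy⟩, hM⟩

theorem rho_cases : (rho : O6) ∈ Crho ⊓ Om ∧ r1 ∈ Crho ⊓ Om ∧ r2 ∈ Crho ⊓ Om ∧ sw ∈ Crho ⊓ Om :=
  ⟨⟨mem_Crho.mpr rfl, rho_mem⟩, ⟨mem_Crho.mpr rho_r1.symm, r1_mem⟩, ⟨mem_Crho.mpr rho_r2.symm, r2_mem⟩,
    ⟨mem_Crho.mpr sw_rho, sw_mem⟩⟩

theorem exists_cfg3 : ∃ y₁ y₂ : G, Cfg3 z y y₁ y₂ Q π M := by
  obtain ⟨q0, q1, q2, q3, -, -⟩ := six_q
  obtain ⟨h0, h1, h2, h3⟩ := A6_mem
  obtain ⟨c, hc, hM⟩ := T.exists_Kz T.rho_cases.2.1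
  obtain ⟨w3, wM⟩ := pow_lift T.st (Kz_z hc) hM r1_cube
  have P1 : Pl z y Q π M a1 b1 (c ^ 4) := ⟨T, q0, q1, six_isSix.2 0 1, ⟨(A6_perp _ h0).1, (A6_perp _ h0).2.1⟩,
    ⟨(A6_perp _ h1).1, (A6_perp _ h1).2.1⟩, pow_mem hc 4, w3, wM⟩
  obtain ⟨d, hd, hdM⟩ := T.exists_Kz T.rho_cases.2.2.1
  obtain ⟨d', hd', hdM', hdc⟩ := lift_cent T.st (Kz z y) (fun g hg => Kz_z hg) P1.mem w3 P1.Mw_ne hd
    (by rw [hdM, wM]; exact r1_r2.symm)
  obtain ⟨v3, vM⟩ := pow_lift T.st (Kz_z hd') (hdM'.trans hdM) r2_cube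
  exact ⟨c ^ 4, d' ^ 4, P1, ⟨T, q2, q3, six_isSix.2 2 3, ⟨(A6_perp _ h2).1, (A6_perp _ h2).2.1⟩,
    ⟨(A6_perp _ h3).1, (A6_perp _ h3).2.1⟩, pow_mem hd' 4, v3, vM⟩, (Commute.pow_left hdc 4).symm⟩

theorem card_Qu : Nat.card (Qu Q y) = 32 := by
  classical
  let φ : Qu Q y →* Multiplicative V := MonoidHom.mk' (fun q => Multiplicative.ofAdd (π (q : G))) fun p q =>
    congrArg Multiplicative.ofAdd (T.st.π_mul _ (mem_Qu.mp p.2).1 _ (mem_Qu.mp q.2).1)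
  have hker : Nat.card φ.ker = 2 := by
    have hset : (φ.ker : Set (Qu Q y)) = {⟨1, one_mem _⟩, ⟨z, T.z_Qu⟩} := by
      ext q
      constructor
      · intro hq
        rcases T.st.π_ker _ (mem_Qu.mp q.2).1 (Multiplicative.ofAdd.injective hq) with e | e
        · exact Or.inl (Subtype.ext e)
        · exact Or.inr (Subtype.ext e)
      · rintro (rfl | rfl)
        · exact φ.ker.one_mem
        · exact congrArg Multiplicative.ofAdd T.st.π_z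
    rw [show Nat.card φ.ker = Nat.card (φ.ker : Set (Qu Q y)) from rfl, hset, Nat.card_coe_set_eq,
      Set.ncard_pair fun e => T.st.es.ne (congrArg Subtype.val e).symm]
  have hrange : (φ.range : Set (Multiplicative V)) = Multiplicative.ofAdd ''
      ((Finset.univ.filter fun v : V => bf v d0 = 0 ∧ bf v d1 = 0 : Finset V) : Set V) := by
    ext x
    constructor
    · rintro ⟨q, rfl⟩
      exact ⟨_, Finset.mem_filter.mpr ⟨Finset.mem_univ _, (T.cq_iff (mem_Qu.mp q.2).1).mp (mem_Qu.mp q.2).2⟩, rfl⟩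
    · rintro ⟨v, hv, rfl⟩
      obtain ⟨q, hq, rfl⟩ := T.st.π_surj v
      exact ⟨⟨q, mem_Qu.mpr ⟨hq, (T.cq_iff hq).mpr (Finset.mem_filter.mp hv).2⟩⟩, rfl⟩
  have hr : Nat.card φ.range = 16 := by
    rw [show Nat.card φ.range = Nat.card (φ.range : Set (Multiplicative V)) from rfl, hrange, Nat.card_coe_set_eq,
      Set.ncard_image_of_injective _ Multiplicative.ofAdd.injective, Set.ncard_coe_finset, perp_card]
  have h1 := φ.ker.card_mul_index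
  rw [Subgroup.index_ker, hker, hr] at h1
  omega

/-- The action on the centraliser. -/
def hom : Kz z y →* O6 := MonoidHom.mk' (fun c => M (c : G)) fun c d => T.st.M_mul _ _ (Kz_z c.2) (Kz_z d.2)

theorem hom_apply (c : Kz z y) : T.hom c = M (c : G) := rfl

theorem card_Kz : Nat.card (Kz z y) = 3456 := by
  have hr : T.hom.range = Crho ⊓ Om := by
    refine le_antisymm ?_ fun g hg => ?_
    · rintro _ ⟨c, rfl⟩
      exact T.M_Kz c.2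
    · obtain ⟨c, hc, hM⟩ := T.exists_Kz hg
      exact ⟨⟨c, hc⟩, hM⟩
  have hk : T.hom.ker = (Qu Q y).subgroupOf (Kz z y) := by
    ext c
    rw [MonoidHom.mem_ker, Subgroup.mem_subgroupOf, mem_Qu, T.hom_apply, T.st.M_ker _ (Kz_z c.2)]
    exact ⟨fun e => ⟨e, (mem_Kz.mp c.2).2⟩, fun e => e.1⟩
  have h1 := T.hom.ker.card_mul_index
  rw [Subgroup.index_ker, hr, card_CrhoOm, hk, Nat.card_congr (Subgroup.subgroupOfEquivOfLe T.Qu_le).toEquiv,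
    T.card_Qu] at h1
  omega

/-- The part acting through the three rotations. -/
noncomputable def J : Subgroup G := (Rg.comap T.hom).map (Kz z y).subtype

theorem mem_J {g : G} : g ∈ T.J ↔ g ∈ Kz z y ∧ M g ∈ Rg := by
  constructor
  · rintro ⟨c, hc, rfl⟩
    exact ⟨c.2, hc⟩
  · rintro ⟨hg, hM⟩
    exact ⟨⟨g, hg⟩, hM, rfl⟩

theorem J_normal : (T.J.subgroupOf (Kz z y)).Normal := by
  refine ⟨fun n hn c => T.mem_J.mpr ⟨(c * n * c⁻¹).2, ?_⟩⟩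
  show T.hom (c * n * c⁻¹) ∈ Rg
  rw [map_mul, map_mul, map_inv]
  exact Rg_conj (T.M_Kz c.2).1 (T.mem_J.mp hn).2

theorem J_index : (T.J.subgroupOf (Kz z y)).index = 4 := by
  have e : T.J.subgroupOf (Kz z y) = Rg.comap T.hom := by
    ext c
    rw [Subgroup.mem_subgroupOf, T.mem_J, Subgroup.mem_comap, T.hom_apply]
    exact ⟨fun h => h.2, fun h => ⟨c.2, h⟩⟩
  have hr : T.hom.range = Crho ⊓ Om := by
    refine le_antisymm ?_ fun g hg => ?_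
    · rintro _ ⟨c, rfl⟩
      exact T.M_Kz c.2
    · obtain ⟨c, hc, hM⟩ := T.exists_Kz hg
      exact ⟨⟨c, hc⟩, hM⟩
  haveI : Finite O6 := finite_O6
  rw [e, Subgroup.index_comap, hr]
  have h1 := Subgroup.relIndex_mul_index (le_inf Rg_le_Crho Rg_le_Om : Rg ≤ Crho ⊓ Om)
  have h2 := Rg.card_mul_index
  have h3 := (Crho ⊓ Om : Subgroup O6).card_mul_index
  rw [card_Rg, ← h1] at h2
  rw [card_CrhoOm] at h3
  have hpos : (Crho ⊓ Om : Subgroup O6).index ≠ 0 := fun e0 => by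
    rw [e0, mul_zero] at h3
    exact (Nat.card_pos (α := O6)).ne' h3.symm
  apply mul_right_cancel₀ hpos
  apply mul_left_cancel₀ (show (27 : ℕ) ≠ 0 by norm_num)
  rw [h2, ← h3]
  ring

end Y3

namespace Cfg3

variable (C : Cfg3 z y y₁ y₂ Q π M)
include C

theorem base : Y3 z y Q π M := C.p1.base

theorem cross : ∀ u v : V, InW a1 b1 u → InW a2 b2 v → bf u v = 0 ∧ rot a1 b1 v = v ∧ rot a2 b2 u = u := by
  intro u v hu hv
  have key : ∀ u ∈ [0, a1, b1, a1 + b1], ∀ v ∈ [0, a2, b2, a2 + b2],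
      bf u v = 0 ∧ rot a1 b1 v = v ∧ rot a2 b2 u = u := by decide +kernel
  exact key u (by simpa [InW] using hu) v (by simpa [InW] using hv)

theorem comm_qp {p q : G} (hp : p ∈ C.p1.qp) (hq : q ∈ C.p2.qp) : p * q = q * p :=
  (C.base.st.comm p hp.1 q hq.1).mpr (C.cross _ _ hp.2 hq.2).1

theorem comm_L {g h : G} (hg : g ∈ C.p1.L) (hh : h ∈ C.p2.L) : g * h = h * g := by
  obtain ⟨p, hp, m, rfl⟩ := hg
  obtain ⟨q, hq, n, rfl⟩ := hh
  have e1 : Commute y₁ q := cent_of_fix C.base.st C.p1.wz C.p1.cube hq.1 (by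
    rw [C.p1.act, tr_mul_apply]; exact (C.cross 0 _ (Or.inl rfl) hq.2).2.1)
  have e2 : Commute y₂ p := cent_of_fix C.base.st C.p2.wz C.p2.cube hp.1 (by
    rw [C.p2.act, tr_mul_apply]; exact (C.cross _ 0 hp.2 (Or.inl rfl)).2.2)
  have e3 : Commute y₁ y₂ := C.comm
  exact (Commute.mul_left (Commute.mul_right (C.comm_qp hp hq) (e2.pow_left n).symm)
    (Commute.mul_right (e1.pow_left m) (e3.pow_pow m n))).eq

theorem Qu_split {q : G} (hq : q ∈ Qu Q y) : ∃ p ∈ C.p1.qp, ∃ r ∈ C.p2.qp, q = p * r := by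
  obtain ⟨hqQ, hqy⟩ := mem_Qu.mp hq
  obtain ⟨h0, h1⟩ := (C.base.cq_iff hqQ).mp hqy
  obtain ⟨u, hu, w, hw, he⟩ := perp_split _ h0 h1
  obtain ⟨p, hp, rfl⟩ := C.base.st.π_surj u
  refine ⟨p, ⟨hp, by simpa [InW] using hu⟩, p⁻¹ * q, ⟨mul_mem (inv_mem hp) hqQ, ?_⟩, by group⟩
  rw [C.base.st.π_mul _ (inv_mem hp) _ hqQ, C.base.st.π_inv hp, he, ← add_assoc, V_add_self, zero_add]
  simpa [InW] using hw

theorem M1 : M y₁ = r1 := C.p1.act

theorem M2 : M y₂ = r2 := C.p2.act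

theorem M_prod (i j k : ℕ) : M (y ^ i * y₁ ^ j * y₂ ^ k) = rel i j k := by
  have h := C.base.st
  rw [h.M_mul _ _ (Commute.mul_left (zz_pow C.base.yz i) (zz_pow C.p1.wz j)) (zz_pow C.p2.wz k),
    h.M_mul _ _ (zz_pow C.base.yz i) (zz_pow C.p1.wz j), M_pow h C.base.yz, M_pow h C.p1.wz, M_pow h C.p2.wz,
    C.base.My, C.M1, C.M2]
  rfl

theorem L1_le_J : C.p1.L ≤ C.base.J := by
  rintro _ ⟨q, hq, n, rfl⟩
  refine C.base.mem_J.mpr ⟨C.p1.L_le ⟨q, hq, n, rfl⟩, ?_⟩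
  rw [C.p1.M_L hq, C.M1]
  exact pow_mem (show r1 ∈ Rg from ⟨0, 1, 0, rel_gens.2.1.symm⟩) n

theorem L2_le_J : C.p2.L ≤ C.base.J := by
  rintro _ ⟨q, hq, n, rfl⟩
  refine C.base.mem_J.mpr ⟨C.p2.L_le ⟨q, hq, n, rfl⟩, ?_⟩
  rw [C.p2.M_L hq, C.M2]
  exact pow_mem (show r2 ∈ Rg from ⟨0, 0, 1, rel_gens.2.2.symm⟩) n

theorem J_split {g : G} (hg : g ∈ C.base.J) :
    ∃ (a : G) (b : G) (i : ℕ), a ∈ C.p1.L ∧ b ∈ C.p2.L ∧ g = a * b * y ^ i := by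
  obtain ⟨hgK, i, j, k, hM⟩ := C.base.mem_J.mp hg
  set p := y ^ i * y₁ ^ j * y₂ ^ k with hp
  have hpK : p ∈ Kz z y := mul_mem (mul_mem (pow_mem C.base.y_Kz i) (pow_mem C.p1.mem j)) (pow_mem C.p2.mem k)
  have hq : g * p⁻¹ ∈ Qu Q y := by
    refine mem_Qu.mpr ⟨?_, (mem_Kz.mp (mul_mem hgK (inv_mem hpK))).2⟩
    refine (C.base.st.M_ker _ (Kz_z (mul_mem hgK (inv_mem hpK)))).mp ?_
    rw [C.base.st.M_mul _ _ (Kz_z hgK) (Kz_z (inv_mem hpK)), C.base.st.M_inv (Kz_z hpK), hM, C.M_prod,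
      mul_inv_cancel]
  obtain ⟨a, ha, b, hb, he⟩ := C.Qu_split hq
  refine ⟨a * y₁ ^ j, b * y₂ ^ k, i, ⟨a, ha, j, rfl⟩, ⟨b, hb, k, rfl⟩, ?_⟩
  have c1 : Commute b (y₁ ^ j) := (C.comm_L ⟨1, one_mem _, j, (one_mul _).symm⟩ (C.p2.qp_le_L hb)).symm
  have cy : ∀ c ∈ Kz z y, Commute (y ^ i) c := fun c hc =>
    Commute.pow_left ((mem_Kz.mp hc).2.symm : Commute y c) i
  calc g = g * p⁻¹ * p := by group
    _ = a * b * (y ^ i * (y₁ ^ j * y₂ ^ k)) := by rw [he, hp]; group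
    _ = a * (b * y₁ ^ j) * y₂ ^ k * y ^ i := by
        rw [(cy _ (mul_mem (pow_mem C.p1.mem j) (pow_mem C.p2.mem k))).eq]; group
    _ = a * y₁ ^ j * (b * y₂ ^ k) * y ^ i := by rw [c1.eq]; group

theorem L_meet {a b : G} (ha : a ∈ C.p1.L) (hb : b ∈ C.p2.L) {i : ℕ} (e : a = b * y ^ i) : a = 1 ∨ a = z := by
  obtain ⟨p, hp, m, rfl⟩ := ha
  obtain ⟨q, hq, n, rfl⟩ := hb
  have h := C.base.st
  have eM := congrArg M e
  rw [C.p1.M_L hp, h.M_mul _ _ (Kz_z (C.p2.L_le ⟨q, hq, n, rfl⟩)) (zz_pow C.base.yz i), C.p2.M_L hq,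
    M_pow h C.base.yz, C.base.My, C.M1, C.M2] at eM
  have e' : rel 0 m 0 = rel i 0 n := by
    rw [show rel 0 m 0 = r1 ^ m by simp [rel], show rel i 0 n = rho ^ i * r2 ^ n by simp [rel], eM,
      ((show Commute rho r2 from rho_r2).pow_pow i n).eq]
  obtain ⟨hi, hm, hn⟩ := rel_inj e'
  rw [pow_eq_pow_mod m C.p1.cube, pow_eq_pow_mod n C.p2.cube, pow_eq_pow_mod i C.base.y3, hm, ← hn, ← hi,
    Nat.zero_mod, pow_zero, pow_zero, pow_zero, mul_one, mul_one, mul_one] at e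
  rw [pow_eq_pow_mod m C.p1.cube, hm, Nat.zero_mod, pow_zero, mul_one]
  have hz0 : π p = 0 := by
    have key : ∀ u ∈ [0, a1, b1, a1 + b1], ∀ v ∈ [0, a2, b2, a2 + b2], u = v → u = (0 : V) := by decide +kernel
    exact key _ (by simpa [InW] using hp.2) _ (by simpa [InW] using hq.2) (congrArg π e)
  exact h.π_ker p hp.1 hz0

theorem cent_Qu {g : G} (hg : g ∈ Kz z y) (hc : ∀ q ∈ Qu Q y, g * q = q * g) :
    ∃ i : ℕ, g * (y ^ i)⁻¹ = 1 ∨ g * (y ^ i)⁻¹ = z := by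
  have h := C.base.st
  obtain ⟨i, hi⟩ := rho_pow_of_fix (C.base.M_Kz hg).1 fun v v0 v1 => by
    obtain ⟨q, hq, rfl⟩ := h.π_surj v
    rw [← h.M_act g (Kz_z hg) q hq, conj_fix_iff.mpr (hc q (mem_Qu.mpr ⟨hq, (C.base.cq_iff hq).mpr ⟨v0, v1⟩⟩))]
  refine ⟨i, ?_⟩
  have hgK : g * (y ^ i)⁻¹ ∈ Kz z y := mul_mem hg (inv_mem (pow_mem C.base.y_Kz i))
  have hrQ : g * (y ^ i)⁻¹ ∈ Q := by
    refine (h.M_ker _ (Kz_z hgK)).mp ?_
    rw [h.M_mul _ _ (Kz_z hg) (Kz_z (inv_mem (pow_mem C.base.y_Kz i))), h.M_inv (zz_pow C.base.yz i),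
      M_pow h C.base.yz, C.base.My, hi, mul_inv_cancel]
  refine h.π_ker _ hrQ ?_
  have hperp : ∀ v : V, bf v d0 = 0 → bf v d1 = 0 → bf (π (g * (y ^ i)⁻¹)) v = 0 := by
    intro v v0 v1
    obtain ⟨q, hq, rfl⟩ := h.π_surj v
    have hqy := (C.base.cq_iff hq).mpr ⟨v0, v1⟩
    refine (h.comm _ hrQ q hq).mp (Commute.mul_left (hc q (mem_Qu.mpr ⟨hq, hqy⟩)) ?_).eq
    exact ((Commute.pow_right (hqy : Commute q y) i).symm).inv_left
  obtain ⟨u0, u1⟩ := (C.base.cq_iff hrQ).mp (mem_Kz.mp hgK).2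
  obtain ⟨m0, m1, m2, m3⟩ := A6_mem
  rw [six_expand (π (g * (y ^ i)⁻¹)), u0, u1, hperp b1 (A6_perp _ m1).1 (A6_perp _ m1).2.1,
    hperp a1 (A6_perp _ m0).1 (A6_perp _ m0).2.1, hperp b2 (A6_perp _ m3).1 (A6_perp _ m3).2.1,
    hperp a2 (A6_perp _ m2).1 (A6_perp _ m2).2.1]
  simp

end Cfg3

end CfsgLib.SuzType.ThreeY
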