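import Cfsg.Agent.Lib.SuzType.ThreeY.Norm
import Cfsg.Agent.Lib.DihedralCoreSLTwoThree

/-!
Groups of Suzuki sporadic type, the centraliser of the element of order three: the factor of type `SL₂(3)` of an
anisotropic plane orthogonal to the rotated one.
-/

set_option autoImplicit false
set_option linter.unusedSectionVars false
set_option maxRecDepth 100000
set_option synthInstance.maxSize 2048

universe u

namespace CfsgLib.SuzType.ThreeY

open QuadraticMap CfsgLib.SuzType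
open CfsgLib.HallJankoType (mem_cent conj_fix_iff)

variable {G : Type u} [Group G] [Finite G] {z y w : G} {Q : Subgroup G} {π : G → V} {M : G → O6}

/-- An element of order three fixing the coordinates of an element of the extraspecial group centralises it. -/
theorem cent_of_fix (h : ST z Q π M) {c q : G} (hc : c * z = z * c) (c3 : c ^ 3 = 1) (hq : q ∈ Q)
    (e : (M c).1 (π q) = π q) : c * q = q * c := by
  have hπ : π q = π (c * q * c⁻¹) := by rw [h.M_act c hc q hq, e]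
  rcases h.π_eq hq (h.nor_mem hc hq) hπ with e' | e'
  · exact conj_fix_iff.mp e'
  · exfalso
    have hz : c * z * c⁻¹ = z := conj_fix_iff.mpr hc
    have step : c * (q * z) * c⁻¹ = q := by
      rw [show c * (q * z) * c⁻¹ = c * q * c⁻¹ * (c * z * c⁻¹) by group, e', hz, mul_assoc, h.zz, mul_one]
    have h3 : c ^ 3 * q * (c ^ 3)⁻¹ = q * z := by
      rw [show c ^ 3 * q * (c ^ 3)⁻¹ = c * (c * (c * q * c⁻¹) * c⁻¹) * c⁻¹ by simp [pow_succ, mul_assoc], e', step, e']
    rw [c3, one_mul, inv_one, mul_one] at h3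
    exact h.es.ne (left_eq_mul.mp h3)

/-- The centraliser of `y` in the centraliser of `z`. -/
def Kz (z y : G) : Subgroup G := Subgroup.centralizer ({z} : Set G) ⊓ Subgroup.centralizer ({y} : Set G)

theorem mem_Kz {g : G} : g ∈ Kz z y ↔ g * z = z * g ∧ g * y = y * g :=
  Subgroup.mem_inf.trans (and_congr mem_cent mem_cent)

theorem Kz_z {g : G} (hg : g ∈ Kz z y) : g * z = z * g := (mem_Kz.mp hg).1

/-- The centraliser of `y` in `Q`. -/
def Qu (Q : Subgroup G) (y : G) : Subgroup G := Q ⊓ Subgroup.centralizer ({y} : Set G)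

theorem mem_Qu {q : G} : q ∈ Qu Q y ↔ q ∈ Q ∧ q * y = y * q := Subgroup.mem_inf.trans (and_congr Iff.rfl mem_cent)

namespace Y3

variable (T : Y3 z y Q π M)
include T

theorem My_ne : M y ≠ 1 := M_ne_of_three T.st T.yz T.y3 T.y1

theorem cq_iff {q : G} (hq : q ∈ Q) : q * y = y * q ↔ bf (π q) d0 = 0 ∧ bf (π q) d1 = 0 := by
  rw [← rho_fix_iff, ← rho_apply, ← T.My]
  refine ⟨fun e => ?_, fun e => (cent_of_fix T.st T.yz T.y3 hq e).symm⟩
  rw [← T.st.M_act y T.yz q hq, conj_fix_iff.mpr e.symm]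

theorem y_Kz : y ∈ Kz z y := mem_Kz.mpr ⟨T.yz, rfl⟩

theorem z_Kz : z ∈ Kz z y := mem_Kz.mpr ⟨rfl, T.yz.symm⟩

theorem Qu_le : Qu Q y ≤ Kz z y := fun q hq =>
  mem_Kz.mpr ⟨T.st.es.comm q (mem_Qu.mp hq).1, (mem_Qu.mp hq).2⟩

theorem z_Qu : z ∈ Qu Q y := mem_Qu.mpr ⟨T.st.es.mem, T.yz.symm⟩

end Y3

/-- The vectors of the plane spanned by `a` and `b`. -/
def InW (a b v : V) : Prop := v = 0 ∨ v = a ∨ v = b ∨ v = a + b

theorem InW.add {a b u v : V} (hu : InW a b u) (hv : InW a b v) : InW a b (u + v) := by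
  rcases hu with e | e | e | e <;> rcases hv with e' | e' | e' | e' <;> rw [e, e']
  all_goals try simp only [zero_add, add_zero, V_add_self]
  all_goals first
    | exact Or.inl rfl
    | exact Or.inr (Or.inl rfl)
    | exact Or.inr (Or.inr (Or.inl rfl))
    | exact Or.inr (Or.inr (Or.inr rfl))
    | exact Or.inr (Or.inr (Or.inr (add_comm _ _)))
    | exact Or.inr (Or.inr (Or.inl (by rw [← add_assoc, V_add_self, zero_add])))
    | exact Or.inr (Or.inl (by rw [add_comm a b, ← add_assoc, V_add_self, zero_add]))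
    | exact Or.inr (Or.inl (by rw [add_assoc, V_add_self, add_zero]))
    | exact Or.inr (Or.inr (Or.inl (by rw [add_comm a b, add_assoc, V_add_self, add_zero])))

/-- An anisotropic plane orthogonal to the rotated one, and an element of order three rotating it. -/
structure Pl (z y : G) (Q : Subgroup G) (π : G → V) (M : G → O6) (a b : V) (w : G) : Prop where
  base : Y3 z y Q π M
  qa : qf a = 1
  qb : qf b = 1
  hab : bf a b = 1
  pa : bf a d0 = 0 ∧ bf a d1 = 0
  pb : bf b d0 = 0 ∧ bf b d1 = 0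
  mem : w ∈ Kz z y
  cube : w ^ 3 = 1
  act : M w = tr a qa * tr b qb

namespace Pl

variable {a b : V} (P : Pl z y Q π M a b w)
include P

theorem act_a : (M w).1 a = b := by
  rw [P.act, tr_mul_apply, rot, P.hab, one_smul, bf_add_left, bf_self, bf_comm b a, P.hab, zero_add, one_smul,
    add_comm a b, add_assoc, V_add_self, add_zero]

theorem act_b : (M w).1 b = a + b := by
  rw [P.act, tr_mul_apply, rot, bf_self, zero_smul, add_zero, bf_comm b a, P.hab, one_smul, add_comm]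

theorem act_InW {v : V} (hv : InW a b v) : InW a b ((M w).1 v) := by
  rcases hv with e | e | e | e <;> rw [e]
  · exact Or.inl (map_zero _)
  · exact Or.inr (Or.inr (Or.inl P.act_a))
  · exact Or.inr (Or.inr (Or.inr P.act_b))
  · rw [map_add, P.act_a, P.act_b, add_comm a b, ← add_assoc, V_add_self, zero_add]
    exact Or.inr (Or.inl rfl)

theorem a_ne : a ≠ 0 ∧ b ≠ 0 ∧ a ≠ b ∧ a + b ≠ 0 ∧ qf (a + b) = 1 := by
  have hab := P.hab
  refine ⟨fun e => ?_, fun e => ?_, fun e => ?_, fun e => ?_, ?_⟩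
  · rw [e, bf_zero_left] at hab; exact zero_ne_one hab
  · rw [e, bf_zero_right] at hab; exact zero_ne_one hab
  · rw [e, bf_self] at hab; exact zero_ne_one hab
  · have := congrArg (fun v => bf v b) e
    simp only [bf_add_left, bf_self, bf_zero_left, hab, add_zero] at this
    exact one_ne_zero this
  · rw [qf_add, P.qa, P.qb, hab]; decide

theorem InW_perp {v : V} (hv : InW a b v) : bf v d0 = 0 ∧ bf v d1 = 0 := by
  rcases hv with e | e | e | e <;> rw [e]
  · exact ⟨bf_zero_left _, bf_zero_left _⟩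
  · exact P.pa
  · exact P.pb
  · rw [bf_add_left, bf_add_left, P.pa.1, P.pa.2, P.pb.1, P.pb.2]; exact ⟨rfl, rfl⟩

theorem InW_zero {v : V} (hv : InW a b v) (hq : qf v = 0) : v = 0 := by
  rcases hv with e | e | e | e
  · exact e
  · rw [e, P.qa] at hq; exact absurd hq one_ne_zero
  · rw [e, P.qb] at hq; exact absurd hq one_ne_zero
  · rw [e, P.a_ne.2.2.2.2] at hq; exact absurd hq one_ne_zero

/-- The quaternion group of the plane. -/
def qp : Subgroup G where
  carrier := {q | q ∈ Q ∧ InW a b (π q)}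
  one_mem' := ⟨one_mem Q, Or.inl P.base.st.π_one⟩
  mul_mem' := fun {p q} hp hq => ⟨mul_mem hp.1 hq.1, by rw [P.base.st.π_mul p hp.1 q hq.1]; exact hp.2.add hq.2⟩
  inv_mem' := fun {q} hq => ⟨inv_mem hq.1, by rw [P.base.st.π_inv hq.1]; exact hq.2⟩

theorem mem_qp {q : G} : q ∈ P.qp ↔ q ∈ Q ∧ InW a b (π q) := Iff.rfl

theorem qp_le : P.qp ≤ Qu Q y := fun _ hq => mem_Qu.mpr ⟨hq.1, (P.base.cq_iff hq.1).mpr (P.InW_perp hq.2)⟩

theorem z_qp : z ∈ P.qp := ⟨P.base.st.es.mem, Or.inl P.base.st.π_z⟩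

theorem wz : w * z = z * w := Kz_z P.mem

theorem qp_conj {q : G} (hq : q ∈ P.qp) : w * q * w⁻¹ ∈ P.qp :=
  ⟨P.base.st.nor_mem P.wz hq.1, by rw [P.base.st.M_act w P.wz q hq.1]; exact P.act_InW hq.2⟩

theorem qp_conj_pow (n : ℕ) : ∀ {q : G}, q ∈ P.qp → w ^ n * q * (w ^ n)⁻¹ ∈ P.qp := by
  induction n with
  | zero => intro q hq; simpa using hq
  | succ n ih =>
    intro q hq
    rw [show w ^ (n + 1) * q * (w ^ (n + 1))⁻¹ = w ^ n * (w * q * w⁻¹) * (w ^ n)⁻¹ by rw [pow_succ]; group]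
    exact ih (P.qp_conj hq)

/-- The factor. -/
def L : Subgroup G where
  carrier := {g | ∃ q ∈ P.qp, ∃ n : ℕ, g = q * w ^ n}
  one_mem' := ⟨1, one_mem _, 0, by simp⟩
  mul_mem' := by
    rintro _ _ ⟨p, hp, m, rfl⟩ ⟨q, hq, n, rfl⟩
    exact ⟨p * (w ^ m * q * (w ^ m)⁻¹), mul_mem hp (P.qp_conj_pow m hq), m + n, by rw [pow_add]; group⟩
  inv_mem' := by
    rintro _ ⟨p, hp, m, rfl⟩
    refine ⟨w ^ (m + m) * p⁻¹ * (w ^ (m + m))⁻¹, P.qp_conj_pow _ (inv_mem hp), m + m, ?_⟩
    rw [inv_mul_cancel_right]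
    refine inv_eq_of_mul_eq_one_right ?_
    rw [show p * w ^ m * (w ^ (m + m) * p⁻¹) = p * (w ^ m * w ^ (m + m)) * p⁻¹ by group, ← pow_add,
      show m + (m + m) = 3 * m by ring, pow_mul, P.cube, one_pow, mul_one, mul_inv_cancel]

theorem qp_le_L : P.qp ≤ P.L := fun q hq => ⟨q, hq, 0, by simp⟩

theorem w_L : w ∈ P.L := ⟨1, one_mem _, 1, by simp⟩

theorem L_le : P.L ≤ Kz z y := by
  rintro _ ⟨q, hq, n, rfl⟩
  exact mul_mem (P.base.Qu_le (P.qp_le hq)) (pow_mem P.mem n)

theorem Mw_ne : M w ≠ 1 := fun e => by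
  have := P.act_a
  rw [e] at this
  exact P.a_ne.2.2.1 this

theorem M_L {q : G} (hq : q ∈ P.qp) (n : ℕ) : M (q * w ^ n) = M w ^ n := by
  rw [P.base.st.M_mul _ _ (P.base.st.es.comm q hq.1) (zz_pow P.wz n), P.base.st.M_Q hq.1, one_mul,
    M_pow P.base.st P.wz]

theorem card_qp : Nat.card P.qp = 8 := by
  classical
  let φ : P.qp →* Multiplicative V := MonoidHom.mk' (fun q => Multiplicative.ofAdd (π (q : G))) fun p q =>
    congrArg Multiplicative.ofAdd (P.base.st.π_mul _ p.2.1 _ q.2.1)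
  have hker : Nat.card φ.ker = 2 := by
    have hset : (φ.ker : Set P.qp) = {⟨1, one_mem _⟩, ⟨z, P.z_qp⟩} := by
      ext q
      constructor
      · intro hq
        rcases P.base.st.π_ker _ q.2.1 (Multiplicative.ofAdd.injective hq) with e | e
        · exact Or.inl (Subtype.ext e)
        · exact Or.inr (Subtype.ext e)
      · rintro (rfl | rfl)
        · exact φ.ker.one_mem
        · exact congrArg Multiplicative.ofAdd P.base.st.π_z
    rw [show Nat.card φ.ker = Nat.card (φ.ker : Set P.qp) from rfl, hset, Nat.card_coe_set_eq,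
      Set.ncard_pair fun e => P.base.st.es.ne (congrArg Subtype.val e).symm]
  have hrange : (φ.range : Set (Multiplicative V)) = Multiplicative.ofAdd '' ({0, a, b, a + b} : Set V) := by
    ext x
    constructor
    · rintro ⟨q, rfl⟩
      exact ⟨_, q.2.2, rfl⟩
    · rintro ⟨v, hv, rfl⟩
      obtain ⟨q, hq, rfl⟩ := P.base.st.π_surj v
      exact ⟨⟨q, hq, hv⟩, rfl⟩
  obtain ⟨n0, n1, n2, n3, -⟩ := P.a_ne
  have hr : Nat.card φ.range = 4 := by
    rw [show Nat.card φ.range = Nat.card (φ.range : Set (Multiplicative V)) from rfl, hrange, Nat.card_coe_set_eq,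
      Set.ncard_image_of_injective _ Multiplicative.ofAdd.injective,
      Set.ncard_insert_of_notMem (by simp [Ne.symm n0, Ne.symm n1, Ne.symm n3]),
      Set.ncard_insert_of_notMem (by simp [n2, n1]), Set.ncard_pair (by simp [n0])]
  have h1 := φ.ker.card_mul_index
  rw [Subgroup.index_ker, hker, hr] at h1
  omega

theorem card_L : Nat.card P.L = 24 := by
  have hw : orderOf (M w) = 3 := orderOf_eq_prime (by rw [← M_pow P.base.st P.wz, P.cube, P.base.st.M_one]) P.Mw_ne
  have hbij : Function.Bijective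
      (fun t : P.qp × Fin 3 => (⟨(t.1 : G) * w ^ t.2.1, t.1, t.1.2, _, rfl⟩ : P.L)) := by
    refine ⟨fun s t e => ?_, ?_⟩
    · have e' := congrArg Subtype.val e
      have e2 := congrArg M e'
      rw [P.M_L s.1.2, P.M_L t.1.2] at e2
      have hn : s.2 = t.2 := Fin.ext (pow_injOn_Iio_orderOf (by rw [Set.mem_Iio, hw]; exact s.2.2)
        (by rw [Set.mem_Iio, hw]; exact t.2.2) e2)
      refine Prod.ext (Subtype.ext ?_) hn
      simp only [hn] at e'
      exact mul_right_cancel e'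
    · rintro ⟨_, q, hq, n, rfl⟩
      exact ⟨(⟨q, hq⟩, ⟨n % 3, Nat.mod_lt _ (by norm_num)⟩), Subtype.ext (by
        show q * w ^ (n % 3) = q * w ^ n
        rw [← pow_eq_pow_mod n P.cube])⟩
  rw [← Nat.card_eq_of_bijective _ hbij, Nat.card_prod, P.card_qp, Nat.card_eq_fintype_card, Fintype.card_fin]

theorem invol_eq {q : G} (hq : q ∈ P.qp) (hqq : q * q = 1) (h1 : q ≠ 1) : q = z :=
  (P.base.st.π_ker q hq.1 (P.InW_zero hq.2 ((P.base.st.sq q hq.1).mp hqq))).resolve_left h1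

/-- The factor is `SL₂(3)`. -/
theorem exists_iso : Nonempty (P.L ≃* Matrix.SpecialLinearGroup (Fin 2) (ZMod 3)) := by
  classical
  haveI : Fact (Nat.Prime 2) := ⟨Nat.prime_two⟩
  set A : Subgroup P.L := P.qp.subgroupOf P.L with hA
  have hAc : Nat.card A = 8 := by
    rw [hA, Nat.card_congr (Subgroup.subgroupOfEquivOfLe P.qp_le_L).toEquiv, P.card_qp]
  set g : P.L := ⟨w, P.w_L⟩ with hg
  have hn : g ∈ Subgroup.normalizer (A : Set P.L) := by
    refine Subgroup.mem_normalizer_iff.mpr fun c => ⟨fun hc => P.qp_conj hc, fun hc => ?_⟩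
    have h2 := P.qp_conj (P.qp_conj (show w * c * w⁻¹ ∈ P.qp from hc))
    rwa [show w * (w * (w * (c : G) * w⁻¹) * w⁻¹) * w⁻¹ = w ^ 3 * c * (w ^ 3)⁻¹ by simp [pow_succ, mul_assoc],
      P.cube, one_mul, inv_one, mul_one] at h2
  have hnC : g ∉ Subgroup.centralizer (A : Set P.L) := fun hc => by
    obtain ⟨q, hq, hqa⟩ := P.base.st.π_surj a
    have hmem : q ∈ P.qp := ⟨hq, by rw [hqa]; exact Or.inr (Or.inl rfl)⟩
    have e : q * w = w * q :=
      congrArg Subtype.val (Subgroup.mem_centralizer_iff.mp hc ⟨q, P.qp_le_L hmem⟩ hmem)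
    have e2 := congrArg π (conj_fix_iff.mpr e.symm : w * q * w⁻¹ = q)
    rw [P.base.st.M_act w P.wz q hq, hqa, P.act_a] at e2
    exact P.a_ne.2.2.1 e2.symm
  have ho : orderOf g = 3 := orderOf_eq_prime (Subtype.ext P.cube) fun e => P.Mw_ne (by
    rw [show w = 1 from congrArg Subtype.val e, P.base.st.M_one])
  have hu : CfsgLib.Frob.UniqSub 2 A := by
    have key : ∀ H : Subgroup A, Nat.card H = 2 → H = Subgroup.zpowers (⟨⟨z, P.qp_le_L P.z_qp⟩, P.z_qp⟩ : A) := by
      intro H hH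
      refine Subgroup.eq_of_le_of_card_ge (fun c hc => ?_) ?_
      · by_cases h1 : c = 1
        · rw [h1]; exact one_mem _
        have h2 : (⟨c, hc⟩ : H) ^ 2 = 1 := hH ▸ pow_card_eq_one'
        rw [pow_two] at h2
        have hz := P.invol_eq (q := ((c : P.L) : G)) c.2
          (congrArg (fun k : H => (((k : A) : P.L) : G)) h2) fun e => h1 (Subtype.ext (Subtype.ext e))
        rw [show c = (⟨⟨z, P.qp_le_L P.z_qp⟩, P.z_qp⟩ : A) from Subtype.ext (Subtype.ext hz)]
        exact Subgroup.mem_zpowers _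
      · rw [hH, Nat.card_zpowers, orderOf_eq_prime (p := 2)]
        · exact Subtype.ext (Subtype.ext (by simpa [pow_two] using P.base.st.zz))
        · exact fun e => P.base.st.es.ne (congrArg (fun k : A => ((k : P.L) : G)) e)
    exact fun H K hH hK => (key H hH).trans (key K hK).symm
  obtain ⟨e⟩ := CfsgLib.QuatSection.q8_of_moved (IsPGroup.of_card (p := 2) (n := 3) (by rw [hAc]; norm_num)) hu hn hnC
    (by rw [ho]; decide)
  obtain ⟨φ, hφ, -, hrot⟩ := CfsgLib.QuatSection.exists_param e hn hnC (by rw [ho]; decide)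
  obtain ⟨θ, hθ⟩ := CfsgLib.DihedralCore.exists_sl23 hφ (show g ^ 3 = 1 from ho ▸ pow_orderOf_eq_one g) hrot
  have hc : Nat.card CfsgLib.QuatSection.SL23 = 24 := by
    rw [← Nat.card_eq_of_bijective _ CfsgLib.QuatSection.slMap_bijective, Nat.card_prod, Nat.card_zmod,
      Nat.card_eq_fintype_card, QuaternionGroup.card]
  exact ⟨(MulEquiv.ofBijective θ ((Nat.bijective_iff_injective_and_card θ).mpr ⟨hθ, hc.trans P.card_L.symm⟩)).symm⟩

/-- The factor is generated by its elements of order three. -/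
theorem L_le_closure : P.L ≤ Subgroup.closure {g | g ∈ P.L ∧ g ^ 3 = 1} := by
  set S := Subgroup.closure {g | g ∈ P.L ∧ g ^ 3 = 1} with hS
  have hw : w ∈ S := Subgroup.subset_closure ⟨P.w_L, P.cube⟩
  have hcm : ∀ v : V, InW a b v → ∃ c ∈ S, c ∈ P.qp ∧ π c = v + (M w).1 v := by
    intro v hv
    obtain ⟨q, hq, rfl⟩ := P.base.st.π_surj v
    have hm : q ∈ P.qp := ⟨hq, hv⟩
    have h1 : q * w * q⁻¹ ∈ S := Subgroup.subset_closure ⟨mul_mem (mul_mem (P.qp_le_L hm) P.w_L) (inv_mem (P.qp_le_L hm)),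
      by rw [conj_pow, P.cube, mul_one, mul_inv_cancel]⟩
    refine ⟨q * (w * q⁻¹ * w⁻¹), ?_, mul_mem hm (P.qp_conj (inv_mem hm)), ?_⟩
    · rw [show q * (w * q⁻¹ * w⁻¹) = q * w * q⁻¹ * w⁻¹ by group]; exact mul_mem h1 (inv_mem hw)
    · rw [P.base.st.π_mul q hq _ (P.base.st.nor_mem P.wz (inv_mem hq)), P.base.st.M_act w P.wz _ (inv_mem hq),
        P.base.st.π_inv hq]
  have hzS : z ∈ S := by
    obtain ⟨c, hc, hcq, hcπ⟩ := hcm a (Or.inr (Or.inl rfl))
    rcases P.base.st.es.sq c hcq.1 with e | e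
    · have := (P.base.st.sq c hcq.1).mp e
      rw [hcπ, P.act_a, P.a_ne.2.2.2.2] at this
      exact absurd this one_ne_zero
    · rw [← e]; exact mul_mem hc hc
  have hv : ∀ v : V, InW a b v → ∃ c ∈ S, c ∈ P.qp ∧ π c = v := by
    intro v hv
    rcases hv with e | e | e | e <;> rw [e]
    · exact ⟨1, one_mem _, one_mem _, P.base.st.π_one⟩
    · obtain ⟨c, h1, h2, h3⟩ := hcm b (Or.inr (Or.inr (Or.inl rfl)))
      exact ⟨c, h1, h2, by rw [h3, P.act_b, add_comm a b, ← add_assoc, V_add_self, zero_add]⟩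
    · obtain ⟨c, h1, h2, h3⟩ := hcm (a + b) (Or.inr (Or.inr (Or.inr rfl)))
      refine ⟨c, h1, h2, ?_⟩
      rw [h3, map_add, P.act_a, P.act_b, show a + b + (b + (a + b)) = (a + a) + (b + b) + b by abel, V_add_self,
        V_add_self, zero_add, zero_add]
    · obtain ⟨c, h1, h2, h3⟩ := hcm a (Or.inr (Or.inl rfl))
      exact ⟨c, h1, h2, by rw [h3, P.act_a]⟩
  rintro _ ⟨q, hq, n, rfl⟩
  refine mul_mem ?_ (pow_mem hw n)
  obtain ⟨c, hc, hcq, hcπ⟩ := hv _ hq.2
  rcases P.base.st.π_eq hcq.1 hq.1 hcπ with e | e <;> rw [e]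
  · exact hc
  · exact mul_mem hc hzS

end Pl

end CfsgLib.SuzType.ThreeY
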