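import Cfsg.Agent.Lib.SuzType.ThreeY.Cfg

/-!
Groups of Suzuki sporadic type, the centraliser of the element of order three: fusion of the central involution,
and elements inverting the elements of order three.
-/

set_option autoImplicit false
set_option linter.unusedSectionVars false
set_option maxRecDepth 100000
set_option synthInstance.maxSize 2048

universe u

namespace CfsgLib.SuzType.ThreeY

open QuadraticMap CfsgLib.SuzType
open CfsgLib.HallJankoType (mem_cent conj_fix_iff)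

/-- The stabiliser of the standard point in the derived orthogonal group. -/
noncomputable def St : Subgroup Om where
  carrier := {g | (g : O6).1 e0 = e0}
  one_mem' := rfl
  mul_mem' := fun {g k} hg hk => by
    show (g : O6).1 ((k : O6).1 e0) = e0
    rw [show (k : O6).1 e0 = e0 from hk]; exact hg
  inv_mem' := fun {g} hg => by
    show (g : O6).1.symm e0 = e0
    conv_lhs => rw [← (show (g : O6).1 e0 = e0 from hg)]
    rw [LinearEquiv.symm_apply_apply]

theorem index_St : St.index = 27 := by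
  classical
  let S := {v : V // qf v = 0 ∧ v ≠ 0}
  let f : Om → S := fun g => ⟨(g : O6).1 e0, ((g : O6).2 e0).trans std_facts.1,
    fun e => std_facts.2.2.2.2.2.2.2.2.2.2.2.2.2.1 ((g : O6).1.map_eq_zero_iff.mp e)⟩
  have hf : ∀ g k : Om, f g = f k ↔ g⁻¹ * k ∈ St := by
    intro g k
    show f g = f k ↔ (g : O6).1.symm ((k : O6).1 e0) = e0
    rw [LinearEquiv.symm_apply_eq]
    exact ⟨fun e => (congrArg Subtype.val e).symm, fun e => Subtype.ext e.symm⟩
  let φ : Om ⧸ St → S := Quotient.lift f fun g k e => (hf g k).mpr (QuotientGroup.leftRel_apply.mp e)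
  have hφ : Function.Bijective φ := by
    refine ⟨fun a b => Quotient.inductionOn₂ a b fun g k e => QuotientGroup.eq.mpr ((hf g k).mp e), fun v => ?_⟩
    obtain ⟨g, hg, hge⟩ := std_one v.2.1 v.2.2
    exact ⟨QuotientGroup.mk (⟨g⁻¹, inv_mem hg⟩ : Om), Subtype.ext (by
      show g.1.symm e0 = v.1
      rw [← hge, LinearEquiv.symm_apply_apply])⟩
  rw [Subgroup.index, Nat.card_congr (Equiv.ofBijective φ hφ), Nat.card_eq_fintype_card, Fintype.card_subtype,
    singular_card]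

theorem rho_e0 : rho.1 e0 = e0 := by
  rw [rho_apply]; decide +kernel

/-- An element of order three of the derived group fixing a singular vector is conjugate to the rotation. -/
theorem conj_rho {k : O6} (hk : k ∈ Om) (k3 : k ^ 3 = 1) (k1 : k ≠ 1) {v : V} (hq : qf v = 0) (hv : v ≠ 0)
    (hfix : k.1 v = v) : ∃ g ∈ Om, g * k * g⁻¹ = rho := by
  classical
  haveI : Finite O6 := finite_O6
  haveI : Fact (Nat.Prime 3) := ⟨Nat.prime_three⟩
  obtain ⟨m, hm, hme⟩ := std_one hq hv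
  have hrho1 : (rho : O6) ≠ 1 := fun e => by
    have h := rot_facts.2.2.2.1
    rw [← rho_apply, e] at h
    exact (by decide +kernel : d0 ≠ d1) h
  let A : St := ⟨⟨m * k * m⁻¹, mul_mem (mul_mem hm hk) (inv_mem hm)⟩, by
    show m.1 (k.1 (m.1.symm e0)) = e0
    rw [← hme, LinearEquiv.symm_apply_apply, hfix]⟩
  let B : St := ⟨⟨rho, rho_mem⟩, rho_e0⟩
  have oA : orderOf A = 3 := orderOf_eq_prime
    (Subtype.ext (Subtype.ext (by simp [A, k3])))
    fun e => k1 (conj_eq_one_iff.mp (congrArg (fun c : St => ((c : Om) : O6)) e))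
  have oB : orderOf B = 3 := orderOf_eq_prime (Subtype.ext (Subtype.ext (by simpa [B] using rho_cube)))
    fun e => hrho1 (congrArg (fun c : St => ((c : Om) : O6)) e)
  have hcard : Nat.card St = 960 := by
    have h := St.card_mul_index
    rw [index_St, card_Om] at h
    omega
  have hidx : ∀ C : St, orderOf C = 3 → ¬ 3 ∣ (Subgroup.zpowers C).index := by
    intro C hC hdvd
    have h := (Subgroup.zpowers C).card_mul_index
    rw [Nat.card_zpowers, hC, hcard] at h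
    omega
  have hp : ∀ C : St, orderOf C = 3 → IsPGroup 3 ↥(Subgroup.zpowers C) := fun C hC =>
    IsPGroup.of_card (n := 1) (by rw [Nat.card_zpowers, hC, pow_one])
  obtain ⟨g, hg⟩ := MulAction.exists_smul_eq St ((hp A oA).toSylow (hidx A oA)) ((hp B oB).toSylow (hidx B oB))
  have hgA : g * A * g⁻¹ ∈ Subgroup.zpowers B := by
    have hs := Subgroup.smul_mem_pointwise_smul A (MulAut.conj g) _
      (((hp A oA).mem_toSylow (hidx A oA)).mpr (Subgroup.mem_zpowers A))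
    rw [← Sylow.coe_subgroup_smul] at hs
    rw [hg] at hs
    exact hs
  obtain ⟨n, hn⟩ := (Submonoid.mem_powers_iff _ _).mp (mem_powers_iff_mem_zpowers.mpr hgA)
  have hn' : ((g : Om) : O6) * (m * k * m⁻¹) * ((g : Om) : O6)⁻¹ = rho ^ (n % 3) := by
    rw [← pow_eq_pow_mod n rho_cube]
    have := congrArg (fun c : St => ((c : Om) : O6)) hn
    simpa [A, B] using this.symm
  have hgm : (((g : Om) : O6) * m) * k * (((g : Om) : O6) * m)⁻¹ = rho ^ (n % 3) := by rw [← hn']; group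
  have hmem : ((g : Om) : O6) * m ∈ Om := mul_mem (g : Om).2 hm
  rcases (show n % 3 = 0 ∨ n % 3 = 1 ∨ n % 3 = 2 by omega) with e | e | e <;> rw [e] at hgm
  · rw [pow_zero] at hgm; exact absurd (conj_eq_one_iff.mp hgm) k1
  · exact ⟨_, hmem, by rwa [pow_one] at hgm⟩
  · refine ⟨c0 * (((g : Om) : O6) * m), mul_mem c0_mem hmem, ?_⟩
    rw [show c0 * (((g : Om) : O6) * m) * k * (c0 * (((g : Om) : O6) * m))⁻¹ =
      c0 * ((((g : Om) : O6) * m) * k * (((g : Om) : O6) * m)⁻¹) * c0⁻¹ by group, hgm, ← conj_pow, c0_rho, inv_pow]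
    exact inv_eq_of_mul_eq_one_right (by rw [← pow_succ, rho_cube])

variable {G : Type u} [Group G] [Finite G] {z y y₁ y₂ : G} {Q : Subgroup G} {π : G → V} {M : G → O6}

namespace Y3

variable (T : Y3 z y Q π M)
include T

/-- Some other conjugate of `z` in `C_Q(y)` is moved there by the centraliser of `y`. -/
theorem exists_fuse : ∃ g : G, g * y = y * g ∧ g * z * g⁻¹ ∈ Qu Q y ∧ g * z * g⁻¹ ≠ z := by
  have h := T.st
  obtain ⟨p, hp, hpπ⟩ := h.π_surj e0
  have hpS : p ∈ h.S := ⟨hp, (h.sq p hp).mpr (by rw [hpπ]; exact std_facts.1),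
    by rw [hpπ]; exact std_facts.2.2.2.2.2.2.2.2.2.2.2.2.2.1⟩
  have hpy : p * y = y * p := (T.cq_iff hp).mpr (by
    rw [hpπ]; exact ⟨std_facts.2.2.2.2.2.2.1, std_facts.2.2.2.2.2.2.2.1⟩)
  have hpz : p ≠ z := fun e => hpS.2.2 (by rw [e, h.π_z])
  obtain ⟨g, hg⟩ := isConj_iff.mp (h.isConj_S hpS)
  -- the element moved back
  have hp' : g⁻¹ * z * g ∈ Q := CfsgLargeExtra.mem_cj.mp (h.symm_mem (g := g) (by rw [hg]; exact hp))
  have hp'z : g⁻¹ * z * g ≠ z := fun e => hpz (by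
    rw [← hg]; conv_lhs => rw [← e]
    group)
  have hp'S : g⁻¹ * z * g ∈ h.S := by
    refine h.mem_S_of hp' ?_ ?_ hp'z
    · rw [show g⁻¹ * z * g * (g⁻¹ * z * g) = g⁻¹ * (z * z) * g by group, h.zz]; group
    · intro e
      exact h.es.ne (by simpa [mul_assoc] using congrArg (fun t => g * t * g⁻¹) e)
  have hyz : g⁻¹ * y * g * z = z * (g⁻¹ * y * g) := by
    calc g⁻¹ * y * g * z = g⁻¹ * (y * (g * z * g⁻¹)) * g := by group
      _ = g⁻¹ * (g * z * g⁻¹ * y) * g := by rw [hg, hpy]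
      _ = z * (g⁻¹ * y * g) := by group
  have hyp : g⁻¹ * y * g * (g⁻¹ * z * g) = g⁻¹ * z * g * (g⁻¹ * y * g) := by
    calc g⁻¹ * y * g * (g⁻¹ * z * g) = g⁻¹ * (y * z) * g := by group
      _ = g⁻¹ * (z * y) * g := by rw [T.yz]
      _ = _ := by group
  have hy3 : (g⁻¹ * y * g) ^ 3 = 1 := by
    have := conj_pow (i := 3) (b := y) (a := g⁻¹)
    rw [inv_inv, T.y3, mul_one, inv_mul_cancel] at this
    exact this
  have hy1 : g⁻¹ * y * g ≠ 1 := fun e => T.y1 (by simpa [mul_assoc] using congrArg (fun t => g * t * g⁻¹) e)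
  have hk3 : M (g⁻¹ * y * g) ^ 3 = 1 := by rw [← M_pow h hyz, hy3, h.M_one]
  have hfix : (M (g⁻¹ * y * g)).1 (π (g⁻¹ * z * g)) = π (g⁻¹ * z * g) := by
    rw [← h.M_act _ hyz _ hp', conj_fix_iff.mpr hyp]
  obtain ⟨m, hm, hme⟩ := conj_rho (h.M_mem _ hyz) hk3 (M_ne_of_three h hyz hy3 hy1)
    ((h.sq _ hp').mp hp'S.2.1) hp'S.2.2 hfix
  obtain ⟨c, hc, hce⟩ := conj_om h hyz T.yz hy3 T.y3 T.My_ne hm (by rw [hme, T.My])
  refine ⟨g * c⁻¹, ?_, ?_, ?_⟩
  · calc g * c⁻¹ * y = g * c⁻¹ * (c * (g⁻¹ * y * g) * c⁻¹) := by rw [hce]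
      _ = y * (g * c⁻¹) := by group
  · rw [show g * c⁻¹ * z * (g * c⁻¹)⁻¹ = g * (c⁻¹ * z * c⁻¹⁻¹) * g⁻¹ by group,
      conj_fix_iff.mpr (show c⁻¹ * z = z * c⁻¹ from Commute.inv_left hc), hg]
    exact mem_Qu.mpr ⟨hp, hpy⟩
  · rw [show g * c⁻¹ * z * (g * c⁻¹)⁻¹ = g * (c⁻¹ * z * c⁻¹⁻¹) * g⁻¹ by group,
      conj_fix_iff.mpr (show c⁻¹ * z = z * c⁻¹ from Commute.inv_left hc), hg]
    exact hpz

/-- The two extraspecial groups meet in a four group. -/
theorem inter_four {g : G} (hgy : g * y = y * g) (hp : g * z * g⁻¹ ∈ Qu Q y) (hne : g * z * g⁻¹ ≠ z) :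
    Nat.card ↥(Qu Q y ⊓ CfsgLargeExtra.cj g (Qu Q y)) = 4 := by
  classical
  have P : Pr z (g * z * g⁻¹) Q (CfsgLargeExtra.cj g Q) π (fun a => π (g⁻¹ * a * g)) M
      (fun a => M (g⁻¹ * a * g)) :=
    ⟨T.st, T.st.conjBy g, (mem_Qu.mp hp).1, T.st.symm_mem (mem_Qu.mp hp).1, hne⟩
  have hgy' : g⁻¹ * y * g = y := by rw [mul_assoc, ← hgy, inv_mul_cancel_left]
  have back : ∀ {a : G}, a * y = y * a → g⁻¹ * a * g * y = y * (g⁻¹ * a * g) := fun {a} e => by
    calc g⁻¹ * a * g * y = g⁻¹ * (a * y) * g := by rw [mul_assoc, hgy]; group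
      _ = g⁻¹ * (y * a) * g := by rw [e]
      _ = g⁻¹ * y * g * (g⁻¹ * a * g) := by group
      _ = _ := by rw [hgy']
  have hU : Qu Q y ⊓ CfsgLargeExtra.cj g (Qu Q y) = P.U := by
    ext a
    refine ⟨fun ha => ?_, fun ha => ?_⟩
    · obtain ⟨h1, h2⟩ := Subgroup.mem_inf.mp ha
      exact P.inter (mem_Qu.mp h1).1 (CfsgLargeExtra.mem_cj.mpr (mem_Qu.mp (CfsgLargeExtra.mem_cj.mp h2)).1)
    · have hay : a * y = y * a := (P.U_central ha T.yz ((mem_Qu.mp hp).2.symm))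
      have hQ' : a ∈ CfsgLargeExtra.cj g Q := by
        rcases ha with rfl | rfl | rfl | rfl
        exacts [one_mem _, P.hz, P.h'.es.mem, mul_mem P.hz P.h'.es.mem]
      exact Subgroup.mem_inf.mpr ⟨mem_Qu.mpr ⟨(P.U_le ha).1, hay⟩,
        CfsgLargeExtra.mem_cj.mpr (mem_Qu.mpr ⟨CfsgLargeExtra.mem_cj.mp hQ', back hay⟩)⟩
  rw [hU]
  obtain ⟨n1, n2, n3⟩ := P.zx_ne
  have hset : (P.U : Set G) = {1, z, g * z * g⁻¹, z * (g * z * g⁻¹)} := by
    ext a
    exact P.mem_U.trans (by simp)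
  rw [show Nat.card P.U = Nat.card (P.U : Set G) from rfl, hset, Nat.card_coe_set_eq,
    Set.ncard_insert_of_notMem (by simp [Ne.symm P.h.es.ne, Ne.symm P.x1, Ne.symm n1]),
    Set.ncard_insert_of_notMem (by simp [P.ne.symm, Ne.symm n2]), Set.ncard_pair (Ne.symm n3)]

/-- An element inverting `y`. -/
theorem exists_inverter : ∃ c : G, c * y * c⁻¹ = y⁻¹ := by
  have hinv : y⁻¹ * z = z * y⁻¹ := Commute.inv_left T.yz
  obtain ⟨c, -, hc⟩ := conj_om T.st T.yz hinv T.y3 (by rw [inv_pow, T.y3, inv_one])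
    (by rw [T.st.M_inv T.yz]; exact fun e => T.My_ne (inv_eq_one.mp e)) c0_mem
    (by rw [T.st.M_inv T.yz, T.My, c0_rho])
  exact ⟨c, hc⟩

end Y3

namespace Cfg3

variable (C : Cfg3 z y y₁ y₂ Q π M)
include C

theorem y1_conj : ∃ c : G, c * y₁ * c⁻¹ = y := by
  obtain ⟨g, hg, hge⟩ := r1_conj
  obtain ⟨c, -, hc⟩ := conj_om C.base.st C.p1.wz C.base.yz C.p1.cube C.base.y3 C.base.My_ne hg
    (by rw [C.M1, hge, C.base.My])
  exact ⟨c, hc⟩

theorem y1_inverter : ∃ c ∈ Kz z y, c * y₁ * c⁻¹ = y₁⁻¹ := by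
  obtain ⟨c, hc, hM⟩ := C.base.exists_Kz C.base.rho_cases.2.2.2
  have h := C.base.st
  have e : M (c * y₁ * c⁻¹) = M y₁⁻¹ := by
    rw [M_conj h (Kz_z hc) C.p1.wz, hM, C.M1, sw_r1, h.M_inv C.p1.wz, C.M1]
  obtain ⟨q, -, hqK, hq⟩ := conj_lift h (Kz z y) (fun d hd => Kz_z hd)
    (mul_mem (mul_mem hc C.p1.mem) (inv_mem hc)) (inv_mem C.p1.mem)
    (by rw [conj_pow, C.p1.cube, mul_one, mul_inv_cancel]) (by rw [inv_pow, C.p1.cube, inv_one]) e
    (by rw [e, h.M_inv C.p1.wz]; exact fun e' => C.p1.Mw_ne (inv_eq_one.mp e'))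
  exact ⟨q * c, mul_mem hqK hc, by rw [← hq]; group⟩

end Cfg3

end CfsgLib.SuzType.ThreeY
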