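import Cfsg.Agent.Lib.SuzType.ThreeY.Fuse
import Cfsg.Agent.Lib.Comp.Layer
import Cfsg.Agent.Lib.Basic

/-!
Groups of Suzuki sporadic type: the centraliser of the element of order three modulo that element, at the image
of the central involution.
-/

set_option autoImplicit false
set_option linter.unusedSectionVars false
set_option maxRecDepth 100000

universe u

namespace CfsgLib.SuzType.ThreeY

open Cfsg CfsgLib.SuzType
open CfsgLib.HallJankoType (mem_cent conj_fix_iff)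

variable {G : Type u} [Group G] [Finite G] {z y y₁ y₂ : G} {Q : Subgroup G} {π : G → V} {M : G → O6}
variable {C : Subgroup G} {X : Type u} [Group X] {f : C →* X} {zC : C}

theorem rel_pow (i j k : ℕ) : ∀ n : ℕ, rel i j k ^ n = rel (n * i) (n * j) (n * k) := by
  intro n
  induction n with
  | zero => simp [rel_zero]
  | succ n ih => rw [pow_succ, ih, rel_mul, Nat.succ_mul, Nat.succ_mul, Nat.succ_mul]

/-- The centraliser of `y` with the quotient by the subgroup generated by `y`, and `z` in it. -/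
structure Proj (z y : G) (C : Subgroup G) (f : C →* X) (zC : C) : Prop where
  mem : ∀ g, g ∈ C ↔ g * y = y * g
  surj : Function.Surjective f
  ker : ∀ g : C, f g = 1 ↔ ∃ i : ℕ, (g : G) = y ^ i
  zC : (zC : G) = z

namespace Y3

variable (T : Y3 z y Q π M)
include T

theorem pow_y_Q {i : ℕ} (h : y ^ i ∈ Q) : y ^ i = 1 :=
  eq_one_of_three T.st h (by rw [← pow_mul, mul_comm, pow_mul, T.y3, one_pow])

theorem pow_y_two {i n : ℕ} (h : (y ^ i) ^ 2 ^ n = 1) : y ^ i = 1 := by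
  rw [← orderOf_eq_one_iff]
  refine Nat.eq_one_of_dvd_coprimes (Nat.Coprime.pow_left n (show Nat.Coprime 2 3 by norm_num)) ?_ ?_
  · exact orderOf_dvd_of_pow_eq_one h
  · exact orderOf_dvd_of_pow_eq_one (by rw [← pow_mul, mul_comm, pow_mul, T.y3, one_pow])

end Y3

namespace Proj

variable (Pj : Proj z y C f zC)
include Pj

theorem Kz_le : Kz z y ≤ C := fun _ hg => (Pj.mem _).mpr (mem_Kz.mp hg).2

theorem eq_iff {a b : C} : f a = f b ↔ ∃ i : ℕ, (a : G) = (b : G) * y ^ i := by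
  rw [show f a = f b ↔ f (b⁻¹ * a) = 1 by rw [map_mul, map_inv, inv_mul_eq_one, eq_comm], Pj.ker]
  refine exists_congr fun i => ?_
  rw [Subgroup.coe_mul, Subgroup.coe_inv, inv_mul_eq_iff_eq_mul]

/-- The map onto the centraliser of the image of `z`. -/
def psi : Kz z y →* ↥(Subgroup.centralizer ({f zC} : Set X)) :=
  (f.comp (Subgroup.inclusion Pj.Kz_le)).codRestrict _ fun g => by
    refine mem_cent.mpr ?_
    show f _ * f zC = f zC * f _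
    rw [← map_mul, ← map_mul]
    refine congrArg f (Subtype.ext ?_)
    show (g : G) * zC = zC * g
    rw [Pj.zC]
    exact Kz_z g.2

theorem psi_val (g : Kz z y) : (Pj.psi g : X) = f ⟨g, Pj.Kz_le g.2⟩ := rfl

variable (T : Y3 z y Q π M)
include T

theorem zX_two : orderOf (f zC) = 2 := by
  refine orderOf_eq_prime ?_ fun e => ?_
  · rw [← map_pow]
    refine (Pj.ker _).mpr ⟨0, ?_⟩
    rw [Subgroup.coe_pow, Pj.zC, pow_two, T.st.zz, pow_zero]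
  · obtain ⟨i, hi⟩ := (Pj.ker _).mp e
    rw [Pj.zC] at hi
    exact T.st.es.ne (hi.trans (T.pow_y_Q (hi ▸ T.st.es.mem)))

theorem psi_surj : Function.Surjective Pj.psi := by
  rintro ⟨x, hx⟩
  obtain ⟨g, rfl⟩ := Pj.surj x
  have e := mem_cent.mp hx
  rw [← map_mul, ← map_mul] at e
  obtain ⟨i, hi⟩ := Pj.eq_iff.mp e
  rw [Subgroup.coe_mul, Subgroup.coe_mul, Pj.zC] at hi
  have hgy := (Pj.mem _).mp g.2
  have e2 : (g : G) * z * (g : G)⁻¹ = z * y ^ i := by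
    rw [hi, mul_assoc z, ((show Commute y (g : G) from hgy.symm).pow_left i).symm.eq]; group
  have hi1 : y ^ i = 1 := by
    refine T.pow_y_two (n := 1) ?_
    have hc : Commute z (y ^ i) := (zz_pow T.yz i).symm
    have e3 : (z * y ^ i) ^ 2 = 1 := by rw [← e2, conj_pow, pow_two, T.st.zz, mul_one, mul_inv_cancel]
    rwa [hc.mul_pow, pow_two z, T.st.zz, one_mul] at e3
  rw [hi1, mul_one] at e2
  exact ⟨⟨g, mem_Kz.mpr ⟨conj_fix_iff.mp e2, hgy⟩⟩, Subtype.ext rfl⟩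

theorem card_cent : Nat.card ↥(Subgroup.centralizer ({f zC} : Set X)) = 1152 := by
  have hk : Pj.psi.ker = (Subgroup.zpowers y).subgroupOf (Kz z y) := by
    ext g
    rw [MonoidHom.mem_ker, Subgroup.mem_subgroupOf, ← mem_powers_iff_mem_zpowers, Submonoid.mem_powers_iff]
    refine ⟨fun e => ?_, fun ⟨i, hi⟩ => Subtype.ext ((Pj.ker _).mpr ⟨i, hi.symm⟩)⟩
    obtain ⟨i, hi⟩ := (Pj.ker _).mp (congrArg Subtype.val e)
    exact ⟨i, hi.symm⟩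
  have hc : Nat.card Pj.psi.ker = 3 := by
    rw [hk, Nat.card_congr (Subgroup.subgroupOfEquivOfLe (Subgroup.zpowers_le.mpr T.y_Kz)).toEquiv,
      Nat.card_zpowers, orderOf_eq_prime T.y3 T.y1]
  have h := Pj.psi.ker.card_mul_index
  rw [Subgroup.index_ker, MonoidHom.range_eq_top.mpr (Pj.psi_surj T), Subgroup.card_top, hc, T.card_Kz] at h
  omega

omit T in
/-- The image of a subgroup. -/
def im (S : Subgroup G) : Subgroup ↥(Subgroup.centralizer ({f zC} : Set X)) := (S.subgroupOf (Kz z y)).map Pj.psi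

omit T in
theorem mem_im {S : Subgroup G} {x : ↥(Subgroup.centralizer ({f zC} : Set X))} :
    x ∈ Pj.im S ↔ ∃ g : Kz z y, (g : G) ∈ S ∧ Pj.psi g = x := Iff.rfl

/-- The images of subgroups meeting the kernel trivially. -/
theorem im_equiv {S : Subgroup G} (hS : S ≤ Kz z y) (h0 : ∀ i : ℕ, y ^ i ∈ S → y ^ i = 1) :
    Nonempty (S ≃* Pj.im S) := by
  let F : S →* Pj.im S := (Pj.psi.comp (Subgroup.inclusion hS)).codRestrict _ fun s => ⟨⟨s, hS s.2⟩, s.2, rfl⟩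
  refine ⟨MulEquiv.ofBijective F ⟨(injective_iff_map_eq_one F).mpr fun s e => ?_, ?_⟩⟩
  · obtain ⟨i, hi⟩ := (Pj.ker _).mp (congrArg Subtype.val (congrArg Subtype.val e))
    have hs : (s : G) = y ^ i := hi
    exact Subtype.ext (hs.trans (h0 i (hs ▸ s.2)))
  · rintro ⟨x, g, hg, rfl⟩
    exact ⟨⟨g, hg⟩, Subtype.ext (Subtype.ext rfl)⟩

end Proj

namespace Cfg3

variable (Cf : Cfg3 z y y₁ y₂ Q π M) (Pj : Proj z y C f zC)
include Cf Pj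

theorem L1_y {i : ℕ} (h : y ^ i ∈ Cf.p1.L) : y ^ i = 1 := by
  obtain ⟨q, hq, n, e⟩ := h
  have eM := congrArg M e
  rw [Cf.p1.M_L hq, M_pow Cf.base.st Cf.base.yz, Cf.base.My, Cf.M1,
    show rho ^ i = rel i 0 0 by simp [rel], show r1 ^ n = rel 0 n 0 by simp [rel]] at eM
  rw [pow_eq_pow_mod i Cf.base.y3, (rel_inj eM).1, Nat.zero_mod, pow_zero]

theorem L2_y {i : ℕ} (h : y ^ i ∈ Cf.p2.L) : y ^ i = 1 := by
  obtain ⟨q, hq, n, e⟩ := h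
  have eM := congrArg M e
  rw [Cf.p2.M_L hq, M_pow Cf.base.st Cf.base.yz, Cf.base.My, Cf.M2,
    show rho ^ i = rel i 0 0 by simp [rel], show r2 ^ n = rel 0 0 n by simp [rel]] at eM
  rw [pow_eq_pow_mod i Cf.base.y3, (rel_inj eM).1, Nat.zero_mod, pow_zero]

theorem iso1 : Nonempty (Pj.im Cf.p1.L ≃* Matrix.SpecialLinearGroup (Fin 2) (ZMod 3)) := by
  obtain ⟨e⟩ := Pj.im_equiv Cf.base Cf.p1.L_le fun i h => Cf.L1_y Pj h
  obtain ⟨e'⟩ := Cf.p1.exists_iso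
  exact ⟨e.symm.trans e'⟩

theorem iso2 : Nonempty (Pj.im Cf.p2.L ≃* Matrix.SpecialLinearGroup (Fin 2) (ZMod 3)) := by
  obtain ⟨e⟩ := Pj.im_equiv Cf.base Cf.p2.L_le fun i h => Cf.L2_y Pj h
  obtain ⟨e'⟩ := Cf.p2.exists_iso
  exact ⟨e.symm.trans e'⟩

theorem sup_eq : Pj.im Cf.p1.L ⊔ Pj.im Cf.p2.L = Pj.im Cf.base.J := by
  refine le_antisymm (sup_le ?_ ?_) ?_
  · exact Subgroup.map_mono (Subgroup.comap_mono Cf.L1_le_J)
  · exact Subgroup.map_mono (Subgroup.comap_mono Cf.L2_le_J)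
  rintro _ ⟨g, hg, rfl⟩
  obtain ⟨a, b, i, ha, hb, he⟩ := Cf.J_split hg
  have hy : y ^ i ∈ Kz z y := pow_mem Cf.base.y_Kz i
  have e1 : g = ⟨a, Cf.p1.L_le ha⟩ * ⟨b, Cf.p2.L_le hb⟩ * ⟨y ^ i, hy⟩ := Subtype.ext he
  rw [e1, map_mul, map_mul, show Pj.psi ⟨y ^ i, hy⟩ = 1 from Subtype.ext ((Pj.ker _).mpr ⟨i, rfl⟩), mul_one]
  exact mul_mem (Subgroup.mem_sup_left ⟨_, ha, rfl⟩) (Subgroup.mem_sup_right ⟨_, hb, rfl⟩)

theorem imJ_normal : (Pj.im Cf.base.J).Normal :=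
  Cf.base.J_normal.map _ (Pj.psi_surj Cf.base)

theorem odd_closure : Pj.im Cf.p1.L ⊔ Pj.im Cf.p2.L =
    Subgroup.closure {x : ↥(Subgroup.centralizer ({f zC} : Set X)) | Odd (orderOf x)} := by
  refine le_antisymm ?_ ((Subgroup.closure_le _).mpr fun x hx => ?_)
  · have key : ∀ {a b : V} {w : G} (P : Pl z y Q π M a b w),
        Pj.im P.L ≤ Subgroup.closure {x : ↥(Subgroup.centralizer ({f zC} : Set X)) | Odd (orderOf x)} := by
      intro a b w P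
      rintro _ ⟨g, hg, rfl⟩
      have hle : P.L ≤ ((Subgroup.closure {x : ↥(Subgroup.centralizer ({f zC} : Set X)) | Odd (orderOf x)}).comap
          Pj.psi).map (Kz z y).subtype := by
        refine P.L_le_closure.trans ((Subgroup.closure_le _).mpr fun c hc => ?_)
        refine ⟨⟨c, P.L_le hc.1⟩, Subgroup.subset_closure ?_, rfl⟩
        exact Odd.of_dvd_nat (show Odd 3 by decide) ((orderOf_map_dvd Pj.psi _).trans
          (orderOf_dvd_of_pow_eq_one (Subtype.ext hc.2)))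
      obtain ⟨c, hc, hce⟩ := hle hg
      rwa [show c = g from Subtype.ext hce] at hc
    exact sup_le (key Cf.p1) (key Cf.p2)
  · rw [SetLike.mem_coe, Cf.sup_eq Pj]
    obtain ⟨k, rfl⟩ := Pj.psi_surj Cf.base x
    haveI := Cf.base.J_normal
    have hk : k ^ 4 ∈ Cf.base.J.subgroupOf (Kz z y) :=
      Cf.base.J_index ▸ Subgroup.pow_index_mem _ k
    have hx4 : Pj.psi k ^ 4 ∈ Pj.im Cf.base.J := ⟨k ^ 4, hk, map_pow _ _ _⟩
    obtain ⟨m, hm⟩ := exists_pow_eq_self_of_coprime (x := Pj.psi k) (n := 4) (by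
      rw [show (4 : ℕ) = 2 ^ 2 from rfl]
      exact Nat.Coprime.pow_left 2 (Nat.coprime_two_left.mpr hx))
    rw [← hm]
    exact pow_mem hx4 m

theorem im_normal_sup : ((Pj.im Cf.p1.L).subgroupOf (Pj.im Cf.p1.L ⊔ Pj.im Cf.p2.L)).Normal ∧
    ((Pj.im Cf.p2.L).subgroupOf (Pj.im Cf.p1.L ⊔ Pj.im Cf.p2.L)).Normal := by
  have hc : ∀ a ∈ Pj.im Cf.p1.L, ∀ b ∈ Pj.im Cf.p2.L, a * b = b * a := by
    rintro _ ⟨a, ha, rfl⟩ _ ⟨b, hb, rfl⟩
    rw [← map_mul, ← map_mul]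
    exact congrArg _ (Subtype.ext (Cf.comm_L ha hb))
  refine ⟨(Subgroup.normal_subgroupOf_iff_le_normalizer le_sup_left).mpr (sup_le Subgroup.le_normalizer ?_),
    (Subgroup.normal_subgroupOf_iff_le_normalizer le_sup_right).mpr (sup_le ?_ Subgroup.le_normalizer)⟩
  · exact le_trans (Subgroup.le_centralizer_iff.mp fun a ha => Subgroup.mem_centralizer_iff.mpr fun b hb =>
      (hc a ha b hb).symm) (Subgroup.centralizer_le_normalizer _)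
  · exact le_trans (fun a ha => Subgroup.mem_centralizer_iff.mpr fun b hb => (hc a ha b hb).symm)
      (Subgroup.centralizer_le_normalizer _)

theorem meet : (Pj.im Cf.p1.L ⊓ Pj.im Cf.p2.L).map (Subgroup.subtype _) = Subgroup.zpowers (f zC) := by
  have hzK : (⟨z, Cf.base.z_Kz⟩ : Kz z y) = ⟨z, Cf.base.z_Kz⟩ := rfl
  have hpz : (Pj.psi ⟨z, Cf.base.z_Kz⟩ : X) = f zC := congrArg f (Subtype.ext Pj.zC.symm)
  refine le_antisymm ?_ (Subgroup.zpowers_le.mpr ⟨Pj.psi ⟨z, Cf.base.z_Kz⟩, ⟨⟨_, Cf.p1.qp_le_L Cf.p1.z_qp, rfl⟩,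
    ⟨_, Cf.p2.qp_le_L Cf.p2.z_qp, rfl⟩⟩, hpz⟩)
  rintro _ ⟨x, ⟨⟨a, ha, rfl⟩, b, hb, hbe⟩, rfl⟩
  obtain ⟨i, hi⟩ := Pj.eq_iff.mp (congrArg Subtype.val hbe.symm)
  rcases Cf.L_meet ha hb (i := i) hi with e | e
  · rw [show a = 1 from Subtype.ext e, map_one, map_one]
    exact one_mem _
  · rw [show a = ⟨z, Cf.base.z_Kz⟩ from Subtype.ext e, Subgroup.coe_subtype, hpz]
    exact Subgroup.mem_zpowers _

theorem two_elem {g : Kz z y} (hg : (g : G) ∈ Cf.base.J) {n : ℕ} (h2 : Pj.psi g ^ 2 ^ n = 1) :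
    Pj.psi g ∈ Pj.im (Qu Q y) := by
  obtain ⟨i, j, k, hM⟩ := (Cf.base.mem_J.mp hg).2
  rw [← map_pow] at h2
  obtain ⟨l, hl⟩ := (Pj.ker _).mp (congrArg Subtype.val h2)
  have hl' : (g : G) ^ 2 ^ n = y ^ l := hl
  have eM := congrArg M hl'
  rw [M_pow Cf.base.st (Kz_z g.2), hM, rel_pow, M_pow Cf.base.st Cf.base.yz, Cf.base.My,
    show rho ^ l = rel l 0 0 by simp [rel]] at eM
  obtain ⟨-, hj, hk⟩ := rel_inj eM
  have hdvd : ∀ m, 2 ^ n * m % 3 = 0 % 3 → m % 3 = 0 := fun m hm =>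
    Nat.mod_eq_zero_of_dvd ((Nat.Coprime.dvd_of_dvd_mul_left (Nat.Coprime.pow_right n (show Nat.Coprime 3 2 by norm_num))
      (Nat.dvd_of_mod_eq_zero hm)))
  have hy : y ^ i ∈ Kz z y := pow_mem Cf.base.y_Kz i
  have hM' : M (g : G) = rho ^ i := by
    rw [hM, rel, pow_eq_pow_mod j r1_cube, pow_eq_pow_mod k r2_cube, hdvd j hj, hdvd k hk, pow_zero, pow_zero,
      mul_one, mul_one]
  have hq : (g : G) * (y ^ i)⁻¹ ∈ Qu Q y := by
    refine mem_Qu.mpr ⟨?_, (mem_Kz.mp (mul_mem g.2 (inv_mem hy))).2⟩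
    refine (Cf.base.st.M_ker _ (Kz_z (mul_mem g.2 (inv_mem hy)))).mp ?_
    rw [Cf.base.st.M_mul _ _ (Kz_z g.2) (Kz_z (inv_mem hy)), Cf.base.st.M_inv (Kz_z hy), hM',
      M_pow Cf.base.st Cf.base.yz, Cf.base.My, mul_inv_cancel]
  refine ⟨g * ⟨y ^ i, hy⟩⁻¹, hq, ?_⟩
  rw [map_mul, map_inv, show Pj.psi ⟨y ^ i, hy⟩ = 1 from Subtype.ext ((Pj.ker _).mpr ⟨i, rfl⟩), inv_one, mul_one]

theorem imQu_normal : (Pj.im (Qu Q y)).Normal := by
  have hn : ((Qu Q y).subgroupOf (Kz z y)).Normal := by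
    refine ⟨fun q hq c => mem_Qu.mpr ⟨?_, ?_⟩⟩
    · exact Cf.base.st.nor_mem (Kz_z c.2) (mem_Qu.mp hq).1
    · exact (mem_Kz.mp (c * q * c⁻¹).2).2
  exact hn.map _ (Pj.psi_surj Cf.base)

theorem imQu_pgroup : IsPGroup 2 ↥(Pj.im (Qu Q y)) := by
  rintro ⟨_, q, hq, rfl⟩
  refine ⟨2, Subtype.ext ?_⟩
  show Pj.psi q ^ (2 ^ 2) = 1
  rw [← map_pow]
  exact Subtype.ext ((Pj.ker _).mpr ⟨0, by simpa using four_pow Cf.base.st (mem_Qu.mp hq).1⟩)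

theorem imQu_le : Pj.im (Qu Q y) ≤ Pj.im Cf.p1.L ⊔ Pj.im Cf.p2.L := by
  rintro _ ⟨q, hq, rfl⟩
  obtain ⟨a, ha, b, hb, he⟩ := Cf.Qu_split hq
  rw [show q = ⟨a, Cf.p1.L_le (Cf.p1.qp_le_L ha)⟩ * ⟨b, Cf.p2.L_le (Cf.p2.qp_le_L hb)⟩ from Subtype.ext he, map_mul]
  exact mul_mem (Subgroup.mem_sup_left ⟨_, Cf.p1.qp_le_L ha, rfl⟩)
    (Subgroup.mem_sup_right ⟨_, Cf.p2.qp_le_L hb, rfl⟩)

theorem pCore_eq [Finite X] : Pj.im (Qu Q y) =
    (Cfsg.pCore 2 ↥(Pj.im Cf.p1.L ⊔ Pj.im Cf.p2.L)).map (Subgroup.subtype _) := by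
  haveI : Fact (Nat.Prime 2) := ⟨Nat.prime_two⟩
  haveI := Cf.imQu_normal Pj
  refine le_antisymm (fun x hx => ?_) ?_
  · exact ⟨⟨x, Cf.imQu_le Pj hx⟩, CfsgLib.le_pCore
      (N := (Pj.im (Qu Q y)).subgroupOf (Pj.im Cf.p1.L ⊔ Pj.im Cf.p2.L))
      ((Cf.imQu_pgroup Pj).comap_of_injective _ (Subgroup.subtype_injective _)) hx, rfl⟩
  · rintro _ ⟨⟨x, hxH⟩, hx, rfl⟩
    obtain ⟨n, hn⟩ := CfsgLib.isPGroup_pCore (G := ↥(Pj.im Cf.p1.L ⊔ Pj.im Cf.p2.L)) 2 ⟨⟨x, hxH⟩, hx⟩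
    obtain ⟨g, hg, rfl⟩ : x ∈ Pj.im Cf.base.J := by rw [← Cf.sup_eq Pj]; exact hxH
    exact Cf.two_elem Pj hg (n := n) (congrArg (fun a : ↥(Cfsg.pCore 2 ↥(Pj.im Cf.p1.L ⊔ Pj.im Cf.p2.L)) =>
      ((a : ↥(Pj.im Cf.p1.L ⊔ Pj.im Cf.p2.L)) : ↥(Subgroup.centralizer ({f zC} : Set X)))) hn)

theorem gfit_eq [Finite X] :
    Cfsg.generalizedFittingSubgroup ↥(Subgroup.centralizer ({f zC} : Set X)) = Pj.im (Qu Q y) := by
  haveI : Fact (Nat.Prime 2) := ⟨Nat.prime_two⟩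
  haveI := Cf.imQu_normal Pj
  haveI := Cf.imJ_normal Pj
  have hcore : Cfsg.pCore 2 ↥(Subgroup.centralizer ({f zC} : Set X)) = Pj.im (Qu Q y) := by
    refine le_antisymm (fun t ht => ?_) (CfsgLib.le_pCore (Cf.imQu_pgroup Pj))
    obtain ⟨g, rfl⟩ := Pj.psi_surj Cf.base t
    have hcomm : ∀ (w : Kz z y) (hw : (w : G) ∈ Cf.base.J) (j k : ℕ), M (w : G) = rel 0 j k →
        (∃ j' k', M (g : G) * rel 0 j k * (M (g : G))⁻¹ = rel 0 j' k') →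
        M (g : G) * rel 0 j k = rel 0 j k * M (g : G) := by
      intro w hw j k hMw hconj
      have hmem : Pj.psi (g * w * g⁻¹ * w⁻¹) ∈ Cfsg.pCore 2 ↥(Subgroup.centralizer ({f zC} : Set X)) := by
        rw [map_mul, map_mul, map_mul, map_inv, map_inv,
          show Pj.psi g * Pj.psi w * (Pj.psi g)⁻¹ * (Pj.psi w)⁻¹ =
            Pj.psi g * (Pj.psi w * (Pj.psi g)⁻¹ * (Pj.psi w)⁻¹) by group]
        exact mul_mem ht (Subgroup.Normal.conj_mem inferInstance _ (inv_mem ht) _)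
      obtain ⟨n, hn⟩ := CfsgLib.isPGroup_pCore (G := ↥(Subgroup.centralizer ({f zC} : Set X))) 2 ⟨_, hmem⟩
      have hJ : ((g * w * g⁻¹ * w⁻¹ : Kz z y) : G) ∈ Cf.base.J := by
        have hwJ : w ∈ Cf.base.J.subgroupOf (Kz z y) := hw
        exact mul_mem (Cf.base.J_normal.conj_mem w hwJ g) (inv_mem hwJ)
      obtain ⟨q, hq, hqe⟩ := Cf.two_elem Pj hJ (n := n) (congrArg Subtype.val hn)
      obtain ⟨i, hi⟩ := Pj.eq_iff.mp (congrArg Subtype.val hqe.symm)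
      have hqQ : (q : G) ∈ Q := (mem_Qu.mp hq).1
      have hi' : (g : G) * w * (g : G)⁻¹ * (w : G)⁻¹ = q * y ^ i := hi
      have hgw : (g : G) * w * (g : G)⁻¹ = q * y ^ i * w := by rw [← hi']; group
      have eM := congrArg M hgw
      rw [M_conj Cf.base.st (Kz_z g.2) (Kz_z w.2),
        Cf.base.st.M_mul _ _ (Kz_z (mul_mem q.2 (pow_mem Cf.base.y_Kz i))) (Kz_z w.2),
        Cf.base.st.M_mul _ _ (Kz_z q.2) (zz_pow Cf.base.yz i), Cf.base.st.M_Q hqQ, one_mul,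
        M_pow Cf.base.st Cf.base.yz, Cf.base.My, hMw] at eM
      obtain ⟨j', k', hc⟩ := hconj
      rw [hc, show rho ^ i * rel 0 j k = rel i j k by rw [show rho ^ i = rel i 0 0 by simp [rel], rel_mul]; simp] at eM
      rw [← mul_inv_eq_iff_eq_mul, hc, eM, rel_mod i, ← (rel_inj eM).1, ← rel_mod 0]
    have hMg := (Cf.base.M_Kz g.2).1
    have h1 := hcomm ⟨y₁, Cf.p1.mem⟩ (Cf.L1_le_J Cf.p1.w_L) 1 0 (by rw [rel_gens.2.1]; exact Cf.M1)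
      (by rw [rel_gens.2.1]; exact conj_r1 hMg)
    have h2 := hcomm ⟨y₂, Cf.p2.mem⟩ (Cf.L2_le_J Cf.p2.w_L) 0 1 (by rw [rel_gens.2.2]; exact Cf.M2)
      (by rw [rel_gens.2.2]; exact conj_r2 hMg)
    rw [rel_gens.2.1] at h1
    rw [rel_gens.2.2] at h2
    obtain ⟨n, hn⟩ := CfsgLib.isPGroup_pCore (G := ↥(Subgroup.centralizer ({f zC} : Set X))) 2 ⟨_, ht⟩
    exact Cf.two_elem Pj (Cf.base.mem_J.mpr ⟨g.2, mem_Rg_of_comm hMg h1 h2⟩) (n := n) (congrArg Subtype.val hn)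
  rw [← hcore, CfsgLib.Comp.gfit_eq_pCore_iff, hcore]
  intro x hx
  obtain ⟨g, rfl⟩ := Pj.psi_surj Cf.base x
  have hcent : ∀ q ∈ Qu Q y, (g : G) * q = q * g := by
    intro q hq
    have hqK := Cf.base.Qu_le hq
    have e := congrArg Subtype.val (Subgroup.mem_centralizer_iff.mp hx (Pj.psi ⟨q, hqK⟩) ⟨⟨q, hqK⟩, hq, rfl⟩)
    rw [← map_mul, ← map_mul, Pj.psi_val, Pj.psi_val] at e
    obtain ⟨i, hi⟩ := Pj.eq_iff.mp e
    have hi' : q * (g : G) = (g : G) * q * y ^ i := hi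
    have hyQ : y ^ i ∈ Q := by
      rw [show y ^ i = q⁻¹ * ((g : G)⁻¹ * q * g) by rw [mul_assoc (g : G)⁻¹, hi']; group]
      refine mul_mem (inv_mem (mem_Qu.mp hq).1) ?_
      have h1 := Cf.base.st.nor_mem (Kz_z (inv_mem g.2)) (mem_Qu.mp hq).1
      rwa [inv_inv] at h1
    rw [Cf.base.pow_y_Q hyQ, mul_one] at hi'
    exact hi'.symm
  obtain ⟨i, hi⟩ := Cf.cent_Qu g.2 hcent
  have hy : y ^ i ∈ Kz z y := pow_mem Cf.base.y_Kz i
  refine ⟨g * ⟨y ^ i, hy⟩⁻¹, ?_, ?_⟩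
  · show (g : G) * (y ^ i)⁻¹ ∈ Qu Q y
    rcases hi with e | e <;> rw [e]
    exacts [one_mem _, Cf.base.z_Qu]
  · rw [map_mul, map_inv, show Pj.psi ⟨y ^ i, hy⟩ = 1 from Subtype.ext ((Pj.ker _).mpr ⟨i, rfl⟩), inv_one, mul_one]

theorem exists_other : ∃ x : X, (∃ hx : x * f zC * x⁻¹ ∈ Subgroup.centralizer ({f zC} : Set X),
    (⟨x * f zC * x⁻¹, hx⟩ : ↥(Subgroup.centralizer ({f zC} : Set X))) ∈ Pj.im (Qu Q y)) ∧ x * f zC * x⁻¹ ≠ f zC := by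
  obtain ⟨g, hgy, hq, hne⟩ := Cf.base.exists_fuse
  let gC : C := ⟨g, (Pj.mem g).mpr hgy⟩
  have hqK := Cf.base.Qu_le hq
  have e : f gC * f zC * (f gC)⁻¹ = (Pj.psi ⟨_, hqK⟩ : X) := by
    rw [← map_inv, ← map_mul, ← map_mul, Pj.psi_val]
    exact congrArg f (Subtype.ext (by show g * (zC : G) * g⁻¹ = g * z * g⁻¹; rw [Pj.zC]))
  refine ⟨f gC, ⟨e ▸ (Pj.psi ⟨_, hqK⟩).2, ⟨_, hq, Subtype.ext e.symm⟩⟩, fun e' => hne ?_⟩
  rw [e, Pj.psi_val] at e'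
  obtain ⟨i, hi⟩ := Pj.eq_iff.mp e'
  have hi' : g * z * g⁻¹ = z * y ^ i := by rw [show g * z * g⁻¹ = (zC : G) * y ^ i from hi, Pj.zC]
  have hyQ : y ^ i ∈ Q := by
    rw [show y ^ i = z⁻¹ * (g * z * g⁻¹) by rw [hi']; group]
    exact mul_mem (inv_mem Cf.base.st.es.mem) (mem_Qu.mp hq).1
  rw [hi', Cf.base.pow_y_Q hyQ, mul_one]

theorem inter_card (x : X) (hm : x * f zC * x⁻¹ ∈ (Pj.im (Qu Q y)).map (Subgroup.subtype _))
    (hne : x * f zC * x⁻¹ ≠ f zC) :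
    Nat.card ↥((Pj.im (Qu Q y)).map (Subgroup.subtype _) ⊓
      ((Pj.im (Qu Q y)).map (Subgroup.subtype _)).map (MulAut.conj x).toMonoidHom) = 4 := by
  have h := Cf.base.st
  obtain ⟨g, rfl⟩ := Pj.surj x
  have hgy := (Pj.mem _).mp g.2
  have clean : ∀ (a : G) (i : ℕ) (q : G), q ∈ Q → q * y = y * q → a ^ 4 = 1 → a = q * y ^ i → a = q := by
    intro a i q hq hqy ha e
    have hc : Commute q (y ^ i) := (show Commute q y from hqy).pow_right i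
    rw [e, hc.mul_pow, four_pow h hq, one_mul] at ha
    rw [e, Cf.base.pow_y_two (n := 2) ha, mul_one]
  obtain ⟨_, ⟨q, hq, rfl⟩, hqe⟩ := hm
  have hqe' : f (g * zC * g⁻¹) = f ⟨q, Pj.Kz_le q.2⟩ := by rw [map_mul, map_mul, map_inv]; exact hqe.symm
  obtain ⟨i, hi⟩ := Pj.eq_iff.mp hqe'
  have hzg : (g : G) * z * (g : G)⁻¹ = (q : G) * y ^ i := by
    have hi' : (g : G) * (zC : G) * (g : G)⁻¹ = (q : G) * y ^ i := hi
    rwa [Pj.zC] at hi'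
  have hp : (g : G) * z * (g : G)⁻¹ = q := clean _ i q (mem_Qu.mp hq).1 (mem_Kz.mp q.2).2
    (by rw [conj_pow, show z ^ 4 = (z * z) * (z * z) by simp [pow_succ, mul_assoc], h.zz, mul_one, mul_one, mul_inv_cancel]) hzg
  have hpz : (g : G) * z * (g : G)⁻¹ ≠ z := fun e => hne (by
    rw [← map_inv, ← map_mul, ← map_mul]
    exact congrArg f (Subtype.ext (by show (g : G) * zC * (g : G)⁻¹ = zC; rw [Pj.zC, e])))
  have h4 := Cf.base.inter_four hgy (hp ▸ hq) hpz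
  rw [← h4]
  symm
  refine Nat.card_eq_of_bijective (fun a : ↥(Qu Q y ⊓ CfsgLargeExtra.cj (g : G) (Qu Q y)) =>
    (⟨f ⟨(a : G), Pj.Kz_le (Cf.base.Qu_le (Subgroup.mem_inf.mp a.2).1)⟩, ?_, ?_⟩ : ↥((Pj.im (Qu Q y)).map
      (Subgroup.subtype _) ⊓ ((Pj.im (Qu Q y)).map (Subgroup.subtype _)).map (MulAut.conj (f g)).toMonoidHom)))
    ⟨fun a b e => ?_, ?_⟩
  · exact ⟨_, ⟨⟨(a : G), Cf.base.Qu_le (Subgroup.mem_inf.mp a.2).1⟩, (Subgroup.mem_inf.mp a.2).1, rfl⟩, rfl⟩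
  · have ha := CfsgLargeExtra.mem_cj.mp (Subgroup.mem_inf.mp a.2).2
    refine ⟨_, ⟨_, ⟨⟨_, Cf.base.Qu_le ha⟩, ha, rfl⟩, rfl⟩, ?_⟩
    show f g * f _ * (f g)⁻¹ = _
    rw [← map_inv, ← map_mul, ← map_mul]
    exact congrArg f (Subtype.ext (by show (g : G) * ((g : G)⁻¹ * a * g) * (g : G)⁻¹ = a; group))
  · obtain ⟨i, hi⟩ := Pj.eq_iff.mp (congrArg Subtype.val e)
    have hb := mem_Qu.mp (Subgroup.mem_inf.mp b.2).1
    exact Subtype.ext (clean _ i _ hb.1 hb.2 (four_pow h (mem_Qu.mp (Subgroup.mem_inf.mp a.2).1).1) hi)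
  · rintro ⟨_, ⟨_, ⟨a, ha, rfl⟩, rfl⟩, _, ⟨_, ⟨b, hb, rfl⟩, rfl⟩, hbe⟩
    have e : f (g * ⟨b, Pj.Kz_le b.2⟩ * g⁻¹) = f ⟨a, Pj.Kz_le a.2⟩ := by rw [map_mul, map_mul, map_inv]; exact hbe
    obtain ⟨i, hi⟩ := Pj.eq_iff.mp e
    have hi' : (g : G) * b * (g : G)⁻¹ = (a : G) * y ^ i := hi
    have hgb : (g : G) * b * (g : G)⁻¹ = a := clean _ i a (mem_Qu.mp ha).1 (mem_Kz.mp a.2).2
      (by rw [conj_pow, show (b : G) ^ 4 = 1 from four_pow h (mem_Qu.mp hb).1, mul_one, mul_inv_cancel]) hi'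
    refine ⟨⟨a, ha, CfsgLargeExtra.mem_cj.mpr ?_⟩, Subtype.ext rfl⟩
    rw [← hgb, show (g : G)⁻¹ * ((g : G) * b * (g : G)⁻¹) * g = b by group]
    exact hb

end Cfg3

end CfsgLib.SuzType.ThreeY
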