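import Cfsg.Agent.Lib.SuzType.ThreeY.Plane

/-!
Groups of Suzuki sporadic type: elements of order three with prescribed action on the extraspecial group.
-/

set_option autoImplicit false
set_option linter.unusedSectionVars false

universe u

namespace CfsgLib.SuzType.ThreeY

open CfsgLib.SuzType
open CfsgLib.HallJankoType (mem_cent conj_fix_iff)

variable {G : Type u} [Group G] [Finite G] {z : G} {Q : Subgroup G} {π : G → V} {M : G → O6}

theorem zz_pow {c : G} (hc : c * z = z * c) (n : ℕ) : c ^ n * z = z * c ^ n := Commute.pow_left hc n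

theorem M_pow (h : ST z Q π M) {c : G} (hc : c * z = z * c) : ∀ n : ℕ, M (c ^ n) = M c ^ n := by
  intro n
  induction n with
  | zero => rw [pow_zero, pow_zero, h.M_one]
  | succ n ih => rw [pow_succ, pow_succ, h.M_mul _ _ (zz_pow hc n) hc, ih]

theorem M_conj (h : ST z Q π M) {c a : G} (hc : c * z = z * c) (ha : a * z = z * a) :
    M (c * a * c⁻¹) = M c * M a * (M c)⁻¹ := by
  rw [h.M_mul _ _ (Commute.mul_left hc ha) (Commute.inv_left hc), h.M_mul _ _ hc ha, h.M_inv hc]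

theorem four_pow (h : ST z Q π M) {q : G} (hq : q ∈ Q) : q ^ 4 = 1 := by
  rw [show 4 = 2 * 2 from rfl, pow_mul, sq q]
  rcases h.es.sq q hq with e | e <;> rw [e]
  · rw [one_pow]
  · rw [sq, h.zz]

theorem eq_one_of_three (h : ST z Q π M) {q : G} (hq : q ∈ Q) (q3 : q ^ 3 = 1) : q = 1 := by
  have := four_pow h hq
  rwa [pow_succ, q3, one_mul] at this

theorem M_ne_of_three (h : ST z Q π M) {a : G} (haz : a * z = z * a) (a3 : a ^ 3 = 1) (a1 : a ≠ 1) : M a ≠ 1 :=
  fun e => a1 (eq_one_of_three h ((h.M_ker a haz).mp e) a3)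

/-- Two elements of order three with the same action are conjugate by an element of the extraspecial group. -/
theorem conj_lift (h : ST z Q π M) (K : Subgroup G) (hK : ∀ c ∈ K, c * z = z * c) {a b : G} (ha : a ∈ K)
    (hb : b ∈ K) (a3 : a ^ 3 = 1) (b3 : b ^ 3 = 1) (e : M a = M b) (ne : M a ≠ 1) :
    ∃ q ∈ Q, q ∈ K ∧ q * a * q⁻¹ = b := by
  classical
  haveI : Fact (Nat.Prime 3) := ⟨Nat.prime_three⟩
  haveI : Finite O6 := finite_O6
  let φ : K →* O6 := MonoidHom.mk' (fun c => M (c : G)) fun c d => h.M_mul _ _ (hK c c.2) (hK d d.2)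
  let S : Subgroup K := (Subgroup.zpowers (M a)).comap φ
  let ψ : S →* O6 := φ.comp S.subtype
  let A : S := ⟨⟨a, ha⟩, Subgroup.mem_zpowers (M a)⟩
  let B : S := ⟨⟨b, hb⟩, show M b ∈ Subgroup.zpowers (M a) from e ▸ Subgroup.mem_zpowers _⟩
  have hMa : orderOf (M a) = 3 := orderOf_eq_prime (by rw [← M_pow h (hK a ha), a3, h.M_one]) ne
  have hA : ∀ C : S, ((C : K) : G) ^ 3 = 1 → M ((C : K) : G) = M a → orderOf C = 3 := fun C hC hM => by
    refine orderOf_eq_prime (Subtype.ext (Subtype.ext (by simpa using hC))) fun e' => ne ?_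
    rw [← hM, e']
    exact h.M_one
  have hrange : ψ.range = Subgroup.zpowers (M a) := by
    refine le_antisymm ?_ (Subgroup.zpowers_le.mpr ⟨A, rfl⟩)
    rintro _ ⟨c, rfl⟩
    exact c.2
  have hker : ∃ k, Nat.card ψ.ker = 2 ^ k := by
    refine IsPGroup.iff_card.mp fun c => ⟨2, ?_⟩
    have hq : (((c : S) : K) : G) ∈ Q := (h.M_ker _ (hK _ (c : S).1.2)).mp (MonoidHom.mem_ker.mp c.2)
    refine Subtype.ext (Subtype.ext (Subtype.ext ?_))
    simpa using four_pow h hq
  have hidx : ∀ C : S, orderOf C = 3 → ¬ 3 ∣ (Subgroup.zpowers C).index := by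
    intro C hC hdvd
    obtain ⟨k, hk⟩ := hker
    have h1 := ψ.ker.card_mul_index
    rw [Subgroup.index_ker, hrange, Nat.card_zpowers, hMa, hk] at h1
    have h2 := (Subgroup.zpowers C).card_mul_index
    rw [Nat.card_zpowers, hC, ← h1] at h2
    rw [show (Subgroup.zpowers C).index = 2 ^ k by omega] at hdvd
    exact absurd (Nat.prime_three.dvd_of_dvd_pow hdvd) (by norm_num)
  have hp : ∀ C : S, orderOf C = 3 → IsPGroup 3 ↥(Subgroup.zpowers C) := fun C hC =>
    IsPGroup.of_card (n := 1) (by rw [Nat.card_zpowers, hC, pow_one])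
  have oA := hA A a3 rfl
  have oB := hA B b3 e.symm
  obtain ⟨g, hg⟩ := MulAction.exists_smul_eq S ((hp A oA).toSylow (hidx A oA)) ((hp B oB).toSylow (hidx B oB))
  have hgA : g * A * g⁻¹ ∈ Subgroup.zpowers B := by
    have hs := Subgroup.smul_mem_pointwise_smul A (MulAut.conj g) _
      (((hp A oA).mem_toSylow (hidx A oA)).mpr (Subgroup.mem_zpowers A))
    rw [← Sylow.coe_subgroup_smul] at hs
    rw [hg] at hs
    exact hs
  obtain ⟨j, hj⟩ := Subgroup.mem_zpowers_iff.mp hgA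
  obtain ⟨i, hi⟩ := Subgroup.mem_zpowers_iff.mp g.2
  have hgab : g * A * g⁻¹ = B := by
    have hMg : ψ (g * A * g⁻¹) = ψ B := by
      rw [map_mul, map_mul, map_inv, show ψ A = M a from rfl, show ψ B = M a from e.symm,
        show ψ g = M a ^ i from hi.symm]
      group
    rw [← hj, map_zpow] at hMg
    rw [← hj]
    have h3 : orderOf (ψ B) = 3 := by rw [show ψ B = M a from e.symm, hMa]
    have hmod : j ≡ 1 [ZMOD (3 : ℕ)] := by
      rw [← h3, ← zpow_eq_zpow_iff_modEq, zpow_one, hMg]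
    calc B ^ j = B ^ (1 : ℤ) := zpow_eq_zpow_iff_modEq.mpr (by rw [oB]; exact hmod)
      _ = B := zpow_one B
  refine ⟨((g * (A ^ i)⁻¹ : S) : K), (h.M_ker _ (hK _ (g * (A ^ i)⁻¹ : S).1.2)).mp ?_, (g * (A ^ i)⁻¹ : S).1.2, ?_⟩
  · show ψ (g * (A ^ i)⁻¹) = 1
    rw [map_mul, map_inv, map_zpow, show ψ A = M a from rfl, show ψ g = M a ^ i from hi.symm, mul_inv_cancel]
  · have h2 : g * (A ^ i)⁻¹ * A * (g * (A ^ i)⁻¹)⁻¹ = B := by
      rw [← hgab]; group
    exact congrArg (fun c : S => ((c : K) : G)) h2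

/-- An action commuting with that of an element of order three is realised in its centraliser. -/
theorem lift_cent (h : ST z Q π M) (K : Subgroup G) (hK : ∀ c ∈ K, c * z = z * c) {a c : G} (ha : a ∈ K)
    (a3 : a ^ 3 = 1) (ne : M a ≠ 1) (hc : c ∈ K) (hcom : M c * M a = M a * M c) :
    ∃ c' ∈ K, M c' = M c ∧ c' * a = a * c' := by
  obtain ⟨q, hq, hqK, hqe⟩ := conj_lift h K hK (mul_mem (mul_mem hc ha) (inv_mem hc)) ha
    (by rw [conj_pow, a3, mul_one, mul_inv_cancel]) a3 (by rw [M_conj h (hK c hc) (hK a ha), hcom, mul_inv_cancel_right])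
    (by rw [M_conj h (hK c hc) (hK a ha), hcom, mul_inv_cancel_right]; exact ne)
  refine ⟨q * c, mul_mem hqK hc, by rw [h.M_mul _ _ (hK q hqK) (hK c hc), h.M_Q hq, one_mul], conj_fix_iff.mp ?_⟩
  rw [show q * c * a * (q * c)⁻¹ = q * (c * a * c⁻¹) * q⁻¹ by group, hqe]

/-- The fourth power of a lift of an element of order three has order three. -/
theorem pow_lift (h : ST z Q π M) {c : G} (hc : c * z = z * c) {g : O6} (e : M c = g) (g3 : g ^ 3 = 1) :
    (c ^ 4) ^ 3 = 1 ∧ M (c ^ 4) = g := by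
  have hq : c ^ 3 ∈ Q := (h.M_ker _ (zz_pow hc 3)).mp (by rw [M_pow h hc, e, g3])
  refine ⟨by rw [← pow_mul, show 4 * 3 = 3 * 4 from rfl, pow_mul, four_pow h hq], ?_⟩
  rw [M_pow h hc, e, show (4 : ℕ) = 3 + 1 from rfl, pow_succ, g3, one_mul]

/-- Elements of order three with conjugate actions are conjugate. -/
theorem conj_om (h : ST z Q π M) {a b : G} (ha : a * z = z * a) (hb : b * z = z * b) (a3 : a ^ 3 = 1)
    (b3 : b ^ 3 = 1) (ne : M b ≠ 1) {g : O6} (hg : g ∈ Om) (e : g * M a * g⁻¹ = M b) :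
    ∃ c : G, c * z = z * c ∧ c * a * c⁻¹ = b := by
  obtain ⟨c, hc, hM⟩ := h.M_surj g hg
  have hK : ∀ d ∈ Subgroup.centralizer ({z} : Set G), d * z = z * d := fun d hd => mem_cent.mp hd
  have hca : c * a * c⁻¹ * z = z * (c * a * c⁻¹) :=
    Commute.mul_left (Commute.mul_left hc ha) (Commute.inv_left hc)
  obtain ⟨q, hq, -, hqe⟩ := conj_lift h _ hK (mem_cent.mpr hca) (mem_cent.mpr hb)
    (by rw [conj_pow, a3, mul_one, mul_inv_cancel]) b3 (by rw [M_conj h hc ha, hM, e])
    (by rw [M_conj h hc ha, hM, e]; exact ne)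
  exact ⟨q * c, Commute.mul_left (h.es.comm q hq) hc, by rw [← hqe]; group⟩

end CfsgLib.SuzType.ThreeY
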