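import Cfsg.Agent.Lib.SuzType.ThreeY.Lift

/-!
Groups of Suzuki sporadic type: an element of order three with quaternion commutator group acts as the rotation
of a plane, in suitable coordinates.
-/

set_option autoImplicit false
set_option linter.unusedSectionVars false
set_option maxRecDepth 100000
set_option synthInstance.maxSize 2048

universe u

namespace CfsgLib.SuzType.ThreeY

open QuadraticMap CfsgLib.SuzType
open CfsgLib.HallJankoType (mem_cent conj_fix_iff)
open scoped commutatorElement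

variable {G : Type u} [Group G] [Finite G] {z y : G} {Q : Subgroup G} {π : G → V} {M : G → O6}

/-- An element of order three acting as the rotation of the third plane. -/
structure Y3 (z y : G) (Q : Subgroup G) (π : G → V) (M : G → O6) : Prop where
  st : ST z Q π M
  yz : y * z = z * y
  y3 : y ^ 3 = 1
  y1 : y ≠ 1
  My : M y = rho

set_option maxHeartbeats 800000 in
/-- The hypothesis on the commutator group gives the normal form. -/
theorem exists_Y3 (h : ST z Q π M) (yz : y * z = z * y) (y3 : y ^ 3 = 1) (y1 : y ≠ 1)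
    (hcard : Nat.card ↥⁅Q, Subgroup.zpowers y⁆ = 8)
    (hna : ∃ u ∈ ⁅Q, Subgroup.zpowers y⁆, ∃ v ∈ ⁅Q, Subgroup.zpowers y⁆, u * v ≠ v * u) :
    ∃ (π' : G → V) (M' : G → O6), Y3 z y Q π' M' := by
  classical
  set H := ⁅Q, Subgroup.zpowers y⁆ with hHdef
  have hHQ : H ≤ Q := Subgroup.commutator_le.mpr fun q hq c hc => by
    obtain ⟨n, rfl⟩ := Subgroup.mem_zpowers_iff.mp hc
    have hz : y ^ n * z = z * y ^ n := Commute.zpow_left yz n
    rw [commutatorElement_def, show q * y ^ n * q⁻¹ * (y ^ n)⁻¹ = q * (y ^ n * q⁻¹ * (y ^ n)⁻¹) by group]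
    exact mul_mem hq (h.nor_mem hz (inv_mem hq))
  obtain ⟨u, hu, w, hw, huw⟩ := hna
  have hzH : z ∈ H := by
    have e := (h.es.conj_cases (hHQ hu) (hHQ hw)).resolve_left fun e => huw (conj_fix_iff.mp e)
    have h1 : u * w * u⁻¹ * w⁻¹ = z := by
      rw [e, h.es.comm w (hHQ hw), mul_inv_cancel_right]
    rw [← h1]
    exact mul_mem (mul_mem (mul_mem hu hw) (inv_mem hu)) (inv_mem hw)
  -- the image has four elements
  let φ : H →* Multiplicative V := MonoidHom.mk' (fun a => Multiplicative.ofAdd (π (a : G))) fun a b =>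
    congrArg Multiplicative.ofAdd (h.π_mul _ (hHQ a.2) _ (hHQ b.2))
  have hker : Nat.card φ.ker = 2 := by
    have hset : (φ.ker : Set H) = {⟨1, one_mem H⟩, ⟨z, hzH⟩} := by
      ext a
      constructor
      · intro ha
        rcases h.π_ker _ (hHQ a.2) (Multiplicative.ofAdd.injective ha) with e | e
        · exact Or.inl (Subtype.ext e)
        · exact Or.inr (Subtype.ext e)
      · rintro (rfl | rfl)
        · exact φ.ker.one_mem
        · exact congrArg Multiplicative.ofAdd h.π_z
    rw [show Nat.card φ.ker = Nat.card (φ.ker : Set H) from rfl, hset, Nat.card_coe_set_eq,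
      Set.ncard_pair fun e => h.es.ne (congrArg Subtype.val e).symm]
  have hrange : Nat.card φ.range = 4 := by
    have h1 := φ.ker.card_mul_index
    rw [Subgroup.index_ker, hker, hcard] at h1
    omega
  have himg : ∀ v : V, ∃ a ∈ H, π a = v + (M y).1 v := by
    intro v
    obtain ⟨q, hq, rfl⟩ := h.π_surj v
    refine ⟨⁅q, y⁆, Subgroup.commutator_mem_commutator hq (Subgroup.mem_zpowers y), ?_⟩
    rw [commutatorElement_def, show q * y * q⁻¹ * y⁻¹ = q * (y * q⁻¹ * y⁻¹) by group,
      h.π_mul q hq _ (h.nor_mem yz (inv_mem hq)), h.M_act y yz _ (inv_mem hq), h.π_inv hq]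
  have hM3 : M y ^ 3 = 1 := by rw [← M_pow h yz, y3, h.M_one]
  obtain ⟨v, hv⟩ : ∃ v, v + (M y).1 v ≠ 0 := by
    by_contra hall
    push Not at hall
    refine M_ne_of_three h yz y3 y1 (Subtype.ext (LinearEquiv.ext fun v => ?_))
    show (M y).1 v = v
    rw [← add_zero ((M y).1 v), ← V_add_self v, ← add_assoc, add_comm ((M y).1 v), hall, zero_add]
  obtain ⟨a, hadef⟩ : ∃ a, v + (M y).1 v = a := ⟨_, rfl⟩
  rw [hadef] at hv
  have h3 : ∀ x, (M y).1 ((M y).1 ((M y).1 x)) = x := fun x =>
    LinearEquiv.congr_fun (congrArg Subtype.val hM3) x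
  have hrel : (M y).1 ((M y).1 a) = a + (M y).1 a := by
    have e : ∀ x1 x2 x3 : V, x2 + x3 + (x1 + x2) + (x3 + x1) = 0 := fun x1 x2 x3 => by
      rw [show x2 + x3 + (x1 + x2) + (x3 + x1) = (x1 + x1) + (x2 + x2) + (x3 + x3) by abel]
      simp only [V_add_self, add_zero]
    have h0 := e v ((M y).1 v) ((M y).1 ((M y).1 v))
    rw [← hadef, map_add, map_add, h3]
    generalize v = x1, (M y).1 v = x2, (M y).1 ((M y).1 v) = x3 at h0 ⊢
    calc x3 + x1 = x3 + x1 + 0 := (add_zero _).symm
      _ = x3 + x1 + (x2 + x3 + (x1 + x2) + (x3 + x1)) := by rw [h0]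
      _ = x1 + x2 + (x2 + x3) + ((x3 + x1) + (x3 + x1)) := by abel
      _ = x1 + x2 + (x2 + x3) := by rw [V_add_self (x3 + x1), add_zero]
  obtain ⟨b, hbdef⟩ : ∃ b, (M y).1 a = b := ⟨_, rfl⟩
  rw [hbdef] at hrel
  have hb0 : b ≠ 0 := fun e => hv ((M y).1.map_eq_zero_iff.mp (hbdef.trans e))
  have hab : a + b ≠ 0 := fun e => by
    rw [e] at hrel
    exact hb0 ((M y).1.map_eq_zero_iff.mp hrel)
  have hneq : a ≠ b := fun e => hab (by rw [e, V_add_self])
  have hmemA : ∀ {x : V}, (∃ x', x = x' + (M y).1 x') → Multiplicative.ofAdd x ∈ (φ.range : Set (Multiplicative V)) := by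
    rintro _ ⟨x', rfl⟩
    obtain ⟨c, hc, hce⟩ := himg x'
    exact ⟨⟨c, hc⟩, congrArg Multiplicative.ofAdd hce⟩
  have hA : Multiplicative.ofAdd a ∈ φ.range := hmemA ⟨v, hadef.symm⟩
  have hB : Multiplicative.ofAdd b ∈ φ.range := hmemA ⟨(M y).1 v, by rw [← hbdef, ← hadef, map_add]⟩
  have hW : ∀ c ∈ H, π c = 0 ∨ π c = a ∨ π c = b ∨ π c = a + b := by
    have hset : Multiplicative.ofAdd '' ({0, a, b, a + b} : Set V) = (φ.range : Set (Multiplicative V)) := by
      refine Set.eq_of_subset_of_ncard_le ?_ ?_ (Set.toFinite _)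
      · rintro _ ⟨x, rfl | rfl | rfl | rfl, rfl⟩
        exacts [φ.range.one_mem, hA, hB, φ.range.mul_mem hA hB]
      · rw [← Nat.card_coe_set_eq, show Nat.card ((φ.range : Set (Multiplicative V))) = 4 from hrange,
          Set.ncard_image_of_injective _ Multiplicative.ofAdd.injective,
          Set.ncard_insert_of_notMem (by simp [Ne.symm hv, Ne.symm hb0, Ne.symm hab]),
          Set.ncard_insert_of_notMem (by simp [hneq, hb0]), Set.ncard_pair (by simp [hv])]
    intro c hc
    have hm : Multiplicative.ofAdd (π c) ∈ (φ.range : Set (Multiplicative V)) := ⟨⟨c, hc⟩, rfl⟩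
    rw [← hset] at hm
    obtain ⟨x, hx, hxe⟩ := hm
    rw [Multiplicative.ofAdd.injective hxe] at hx
    exact hx
  have hbab : bf a b = 1 := by
    refine bf_eq_one fun e0 => huw ((h.comm u (hHQ hu) w (hHQ hw)).mpr ?_)
    show bf (π u) (π w) = 0
    rcases hW u hu with e | e | e | e <;> rcases hW w hw with e' | e' | e' | e' <;> rw [e, e'] <;> first
      | rw [bf_self]
      | simp only [bf_add_left, bf_add_right, bf_self, bf_zero_left, bf_zero_right, bf_comm b a, e0, add_zero]
  have hqb : qf b = qf a := by rw [← hbdef]; exact (M y).2 a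
  have hqa : qf a = 1 := by
    have e := (M y).2 b
    rw [hrel, qf_add, hbab, hqb] at e
    exact (show ∀ t : F2, t + t + 1 = t → t = 1 by decide) _ e
  -- the perpendicular is fixed
  have hfix : ∀ x, bf x a = 0 → bf x b = 0 → (M y).1 x = x := by
    intro x xa xb
    obtain ⟨c, hc, hce⟩ := himg x
    have k1 : bf ((M y).1 x) b = 0 := by rw [← hbdef, bf_map, xa]
    have k2 : bf ((M y).1 x) (a + b) = 0 := by rw [← hrel, bf_map, xb]
    rw [bf_add_right, k1, add_zero] at k2
    have n1 : bf (x + (M y).1 x) a = 0 := by rw [bf_add_left, xa, k2, add_zero]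
    have n2 : bf (x + (M y).1 x) b = 0 := by rw [bf_add_left, xb, k1, add_zero]
    have hz0 : x + (M y).1 x = 0 := by
      rw [← hce] at n1 n2 ⊢
      rcases hW c hc with e | e | e | e <;> rw [e] at n1 n2
      · exact e
      · rw [hbab] at n2; exact absurd n2 one_ne_zero
      · rw [bf_comm, hbab] at n1; exact absurd n1 one_ne_zero
      · rw [bf_add_left, bf_self, hbab, add_zero] at n2; exact absurd n2 one_ne_zero
    rw [← add_zero ((M y).1 x), ← V_add_self x, ← add_assoc, add_comm ((M y).1 x), hz0, zero_add]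
  obtain ⟨g, hg, g0, g1⟩ := move_pair hqa (hqb.trans hqa) hbab
  refine ⟨_, _, h.move hg, yz, y3, y1, eq_rho ?_ ?_ fun x x0 x1 => ?_⟩
  · show g.1 ((M y).1 (g.1.symm d0)) = d1
    rw [← g0, LinearEquiv.symm_apply_apply, hbdef, g1]
  · show g.1 ((M y).1 (g.1.symm d1)) = d0 + d1
    rw [← g1, LinearEquiv.symm_apply_apply, hrel, map_add, g0]
  · show g.1 ((M y).1 (g.1.symm x)) = x
    rw [hfix, LinearEquiv.apply_symm_apply]
    · rw [← bf_map g, LinearEquiv.apply_symm_apply, g0, x0]
    · rw [← bf_map g, LinearEquiv.apply_symm_apply, g1, x1]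

end CfsgLib.SuzType.ThreeY
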