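import Cfsg.Agent.Lib.SuzType.ThreeY.Plane

/-!
The centraliser of the rotation: its order.
-/

set_option autoImplicit false
set_option maxRecDepth 100000
set_option synthInstance.maxSize 2048
set_option synthInstance.maxHeartbeats 200000

namespace CfsgLib.SuzType.ThreeY

open QuadraticMap CfsgLib.SuzType

/-- The centraliser of the rotation in the orthogonal group. -/
noncomputable def Crho : Subgroup O6 := Subgroup.centralizer ({rho} : Set O6)

theorem mem_Crho {g : O6} : g ∈ Crho ↔ g * rho = rho * g := Subgroup.mem_centralizer_singleton_iff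

/-- The images of five of the six vectors. -/
def img5 (t : (V × V × V × V) × V) : Fin 6 → V :=
  ![t.1.1, t.1.2.1, t.1.2.2.1, t.1.2.2.2, t.2, rot d0 d1 t.2]

/-- The possible values on the two first planes. -/
def tup4 : Finset (V × V × V × V) :=
  (A6.toFinset ×ˢ A6.toFinset ×ˢ A6.toFinset ×ˢ A6.toFinset).filter fun t =>
    bf t.1 t.2.1 = 1 ∧ bf t.2.2.1 t.2.2.2 = 1 ∧ bf t.1 t.2.2.1 = 0 ∧ bf t.1 t.2.2.2 = 0 ∧ bf t.2.1 t.2.2.1 = 0 ∧
      bf t.2.1 t.2.2.2 = 0

/-- The possible values of an element of the centraliser. -/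
def tup : Finset ((V × V × V × V) × V) := tup4 ×ˢ ({d0, d1, d0 + d1} : Finset V)

/-- The Gram matrix of three planes, for any alternating function. -/
theorem gram_of {α : Type*} {β : α → α → F2} (hs : ∀ u v, β u v = β v u) (h0 : ∀ u, β u u = 0) {a b c d e f : α}
    (ab : β a b = 1) (cd : β c d = 1) (ef : β e f = 1) (ac : β a c = 0) (ad : β a d = 0) (ae : β a e = 0)
    (af : β a f = 0) (bc : β b c = 0) (bd : β b d = 0) (be : β b e = 0) (bg : β b f = 0) (ce : β c e = 0)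
    (cg : β c f = 0) (de : β d e = 0) (dg : β d f = 0) :
    ∀ i j, β (![a, b, c, d, e, f] i) (![a, b, c, d, e, f] j) = if pr i = j then 1 else 0 := by
  intro i j
  fin_cases i <;> fin_cases j
  all_goals show β _ _ = ite _ _ _
  all_goals first
    | exact (h0 _).trans (if_neg (by decide)).symm
    | (rw [if_pos (by decide)]; first | assumption | (rw [hs]; assumption))
    | (rw [if_neg (by decide)]; first | assumption | (rw [hs]; assumption))

/-- Six vectors with the Gram matrix of three planes. -/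
theorem isSix_of {a b c d e f : V} (qa : qf a = 1) (qb : qf b = 1) (qc : qf c = 1) (qd : qf d = 1) (qe : qf e = 1)
    (qg : qf f = 1) (ab : bf a b = 1) (cd : bf c d = 1) (ef : bf e f = 1) (ac : bf a c = 0) (ad : bf a d = 0)
    (ae : bf a e = 0) (af : bf a f = 0) (bc : bf b c = 0) (bd : bf b d = 0) (be : bf b e = 0) (bg : bf b f = 0)
    (ce : bf c e = 0) (cg : bf c f = 0) (de : bf d e = 0) (dg : bf d f = 0) : IsSix ![a, b, c, d, e, f] :=
  ⟨fun i => match i with
    | 0 => qa | 1 => qb | 2 => qc | 3 => qd | 4 => qe | 5 => qg,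
    gram_of (β := bf) bf_comm bf_self ab cd ef ac ad ae af bc bd be bg ce cg de dg⟩

theorem tup4_card : tup4.card = 72 := by decide +kernel

theorem third_facts : ∀ d ∈ ({d0, d1, d0 + d1} : Finset V),
    qf d = 1 ∧ qf (rot d0 d1 d) = 1 ∧ bf d (rot d0 d1 d) = 1 ∧ rot d0 d1 (rot d0 d1 d) = d + rot d0 d1 d ∧
      ∀ a ∈ A6, bf a d = 0 ∧ bf a (rot d0 d1 d) = 0 := by
  decide +kernel

theorem tup_facts : tup.card = 216 ∧ ∀ t ∈ tup, IsSix (img5 t) ∧
    (∀ l : Fin 6, l ≠ 4 → l ≠ 5 → rot d0 d1 (img5 t l) = img5 t l) ∧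
    rot d0 d1 (rot d0 d1 t.2) = t.2 + rot d0 d1 t.2 := by
  refine ⟨by rw [tup, Finset.card_product, tup4_card]; decide +kernel, fun t ht => ?_⟩
  simp only [tup, tup4, Finset.mem_product, Finset.mem_filter, List.mem_toFinset] at ht
  have h4 := ht.1
  have h3 := ht.2
  clear ht
  obtain ⟨hm, g01, g23, g02, g03, g12, g13⟩ := h4
  obtain ⟨m0, m1, m2, m3⟩ := hm
  obtain ⟨q4, q5, g45, hrot, hperp⟩ := third_facts _ h3
  obtain ⟨p00, p01, q0⟩ := A6_perp _ m0
  obtain ⟨p10, p11, q1⟩ := A6_perp _ m1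
  obtain ⟨p20, p21, q2⟩ := A6_perp _ m2
  obtain ⟨p30, p31, q3⟩ := A6_perp _ m3
  obtain ⟨a04, a05⟩ := hperp _ m0
  obtain ⟨a14, a15⟩ := hperp _ m1
  obtain ⟨a24, a25⟩ := hperp _ m2
  obtain ⟨a34, a35⟩ := hperp _ m3
  refine ⟨isSix_of q0 q1 q2 q3 q4 q5 g01 g23 g45 g02 g03 a04 a05 g12 g13 a14 a15 a24 a25 a34 a35,
    fun l h h' => ?_, hrot⟩
  fin_cases l
  · exact (rho_fix_iff _).mpr ⟨p00, p01⟩
  · exact (rho_fix_iff _).mpr ⟨p10, p11⟩
  · exact (rho_fix_iff _).mpr ⟨p20, p21⟩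
  · exact (rho_fix_iff _).mpr ⟨p30, p31⟩
  · exact absurd rfl h
  · exact absurd rfl h'

attribute [local irreducible] tup tup4

/-- The five values. -/
noncomputable def val5 (g : O6) : (V × V × V × V) × V := ((g.1 a1, g.1 b1, g.1 a2, g.1 b2), g.1 d0)

theorem Crho_comm {g : O6} (hg : g ∈ Crho) (x : V) : g.1 (rot d0 d1 x) = rot d0 d1 (g.1 x) := by
  rw [← rho_apply, ← rho_apply]
  exact LinearEquiv.congr_fun (congrArg Subtype.val (mem_Crho.mp hg)) x

theorem Crho_A6 {g : O6} (hg : g ∈ Crho) {v : V} (hv : v ∈ A6) : g.1 v ∈ A6 := by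
  obtain ⟨u0, u1, uq⟩ := A6_perp v hv
  obtain ⟨w0, w1⟩ := (rho_fix_iff (g.1 v)).mp (by rw [← Crho_comm hg, (rho_fix_iff v).mpr ⟨u0, u1⟩])
  exact A6_complete _ w0 w1 ((g.2 v).trans uq)

theorem Crho_third {g : O6} (hg : g ∈ Crho) : g.1 d0 = d0 ∨ g.1 d0 = d1 ∨ g.1 d0 = d0 + d1 := by
  have e : g.1 d0 = g.1 d1 + rot d0 d1 (g.1 d1) := by
    rw [← Crho_comm hg, ← map_add, rot_facts.2.2.2.2.1, add_comm d0 d1, ← add_assoc, V_add_self, zero_add]
  rcases rho_range (g.1 d1) with h | h | h | h <;> rw [← e] at h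
  · have := g.2 d0
    rw [h, QuadraticMap.map_zero, six_q.2.2.2.2.1] at this
    exact absurd this zero_ne_one
  · exact Or.inl h
  · exact Or.inr (Or.inl h)
  · exact Or.inr (Or.inr h)

theorem A6_mem : a1 ∈ A6 ∧ b1 ∈ A6 ∧ a2 ∈ A6 ∧ b2 ∈ A6 := by simp [A6]

theorem val5_mem {g : O6} (hg : g ∈ Crho) : val5 g ∈ tup := by
  obtain ⟨h0, h1, h2, h3⟩ := A6_mem
  rw [tup, tup4]
  simp only [Finset.mem_product, Finset.mem_filter]
  refine ⟨⟨?_, ?_⟩, ?_⟩
  · simp only [val5, List.mem_toFinset]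
    exact ⟨Crho_A6 hg h0, Crho_A6 hg h1, Crho_A6 hg h2, Crho_A6 hg h3⟩
  · simp only [val5, bf_map]
    exact ⟨six_isSix.2 0 1, six_isSix.2 2 3, six_isSix.2 0 2, six_isSix.2 0 3, six_isSix.2 1 2, six_isSix.2 1 3⟩
  · simp only [val5, Finset.mem_insert, Finset.mem_singleton]
    exact Crho_third hg

theorem val5_six {g : O6} (hg : g ∈ Crho) (l : Fin 6) : g.1 (six l) = img5 (val5 g) l := by
  fin_cases l
  iterate 5 rfl
  show g.1 d1 = rot d0 d1 (g.1 d0)
  rw [← Crho_comm hg, rot_facts.2.2.2.1]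

theorem card_Crho : Nat.card Crho = 216 := by
  rw [← tup_facts.1, ← Nat.card_eq_finsetCard]
  refine Nat.card_eq_of_bijective (fun g : Crho => (⟨val5 g.1, val5_mem g.2⟩ : ↥tup)) ⟨fun g k e => ?_, fun t => ?_⟩
  · refine Subtype.ext (ext_six fun l => ?_)
    rw [val5_six g.2, val5_six k.2]
    exact congrArg (fun t => img5 t l) (congrArg Subtype.val e)
  · obtain ⟨hsix, hfix, hrot⟩ := tup_facts.2 t.1 t.2
    obtain ⟨g, hg⟩ := exists_six hsix
    have hmem : g ∈ Crho := mem_Crho.mpr (ext_six fun l => by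
      show g.1 (rho.1 (six l)) = rho.1 (g.1 (six l))
      rw [rho_apply, rho_apply]
      by_cases h4 : l = 4
      · subst h4
        rw [show rot d0 d1 (six 4) = six 5 from rot_facts.2.2.2.1, hg, hg]
        rfl
      by_cases h5 : l = 5
      · subst h5
        rw [show rot d0 d1 (six 5) = six 4 + six 5 from rot_facts.2.2.2.2.1, map_add, hg, hg]
        exact hrot.symm
      have hl : ∀ l : Fin 6, l ≠ 4 → l ≠ 5 → rot d0 d1 (six l) = six l := by decide +kernel
      rw [hl l h4 h5, hg, hfix l h4 h5])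
    refine ⟨⟨g, hmem⟩, Subtype.ext ?_⟩
    show val5 g = t.1
    simp only [val5, show g.1 a1 = _ from hg 0, show g.1 b1 = _ from hg 1, show g.1 a2 = _ from hg 2,
      show g.1 b2 = _ from hg 3, show g.1 d0 = _ from hg 4, img5]
    rfl

theorem card_CrhoOm : Nat.card ↥(Crho ⊓ Om : Subgroup O6) = 108 := by
  haveI : Finite O6 := finite_O6
  have hx : tr a1 six_q.1 ∈ Crho := mem_Crho.mpr (ext_six fun l => by
    show (tr a1 six_q.1).1 (rho.1 (six l)) = rho.1 ((tr a1 six_q.1).1 (six l))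
    rw [rho_apply, tr_apply, rho_apply, tr_apply]
    revert l; decide +kernel)
  have hidx : (Om.subgroupOf Crho).index = 2 := by
    refine Subgroup.index_eq_two_iff.mpr ⟨⟨_, hx⟩, fun b => ?_⟩
    show Xor' ((b : O6) * tr a1 six_q.1 ∈ Om) ((b : O6) ∈ Om)
    by_cases hb : (b : O6) ∈ Om
    · exact Or.inr ⟨hb, fun h => tr_not_mem a1 six_q.1 ((Subgroup.mul_mem_cancel_left _ hb).mp h)⟩
    · exact Or.inl ⟨(Subgroup.mul_mem_iff_of_index_two index_Om).mpr (iff_of_false hb (tr_not_mem _ _)), hb⟩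
  have h := (Om.subgroupOf Crho).card_mul_index
  rw [hidx, card_Crho] at h
  have e : Nat.card ↥(Om.subgroupOf Crho) = Nat.card ↥(Crho ⊓ Om : Subgroup O6) := by
    rw [← Subgroup.card_map_of_injective (f := Crho.subtype) Crho.subtype_injective, Subgroup.subgroupOf_map_subtype,
      inf_comm]
  omega

end CfsgLib.SuzType.ThreeY
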