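import Cfsg.Agent.Lib.SuzType.ThreeY.Main

/-!
Groups of Suzuki sporadic type: the element of order three with quaternion commutator group, in the terms of
the statement.
-/

set_option autoImplicit false
set_option linter.unusedSectionVars false
set_option maxRecDepth 100000

universe u

namespace CfsgLib.SuzType.ThreeY

open Cfsg CfsgLib.SuzType
open CfsgLib.HallJankoType (mem_cent conj_fix_iff)

variable {G : Type u} [Group G] [Finite G]

theorem statement (z : G) (hz : orderOf z = 2) (Q : Subgroup (Subgroup.centralizer ({z} : Set G))) [Q.Normal]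
    (hF : Cfsg.generalizedFittingSubgroup (Subgroup.centralizer ({z} : Set G)) = Q) (hQ : Cfsg.IsExtraspecial 2 Q)
    (hcard : Nat.card Q = 2 ^ 7)
    (e : (Subgroup.centralizer ({z} : Set G)) ⧸ Q ≃* Cfsg.Omega (ZMod 2) (Cfsg.quadFormMinus 2 (ZMod 2) 1 1))
    (hnwc : ∃ g : G, (∃ hq : g * z * g⁻¹ ∈ Subgroup.centralizer ({z} : Set G),
      (⟨g * z * g⁻¹, hq⟩ : Subgroup.centralizer ({z} : Set G)) ∈ Q) ∧ g * z * g⁻¹ ≠ z)
    (Y : Subgroup (Subgroup.centralizer ({z} : Set G))) (hY : Nat.card Y = 3) (hQY : Nat.card ↥⁅Q, Y⁆ = 8)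
    (hQYna : ¬ IsMulCommutative ↥⁅Q, Y⁆)
    [((Y.map (Subgroup.subtype (Subgroup.centralizer ({z} : Set G)))).subgroupOf
      (Subgroup.centralizer ((Y.map (Subgroup.subtype (Subgroup.centralizer ({z} : Set G)))) : Set G))).Normal]
    (K : Type) [Field K] [Fintype K] (hK : Fintype.card K = 9) (hrec : Recog.{u} K) :
    Cfsg.IsQuasisimple ↥(Subgroup.centralizer ((Y.map (Subgroup.subtype (Subgroup.centralizer ({z} : Set G)))) : Set G)) ∧
      Nonempty (↥(Subgroup.centralizer ((Y.map (Subgroup.subtype (Subgroup.centralizer ({z} : Set G)))) : Set G)) ⧸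
        (Y.map (Subgroup.subtype (Subgroup.centralizer ({z} : Set G)))).subgroupOf
          (Subgroup.centralizer ((Y.map (Subgroup.subtype (Subgroup.centralizer ({z} : Set G)))) : Set G)) ≃*
        Cfsg.PSU 4 K 3) ∧
      (Subgroup.centralizer ((Y.map (Subgroup.subtype (Subgroup.centralizer ({z} : Set G)))) : Set G)).relIndex
        (Subgroup.normalizer ((Y.map (Subgroup.subtype (Subgroup.centralizer ({z} : Set G)))) : Set G)) = 2 := by
  classical
  obtain ⟨π₀, M₀, h₀⟩ := exists_ST z hz Q hF hQ hcard e hnwc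
  haveI : Fact (Nat.Prime 3) := ⟨Nat.prime_three⟩
  obtain ⟨yY, hyY⟩ := exists_prime_orderOf_dvd_card' (G := Y) 3 (by rw [hY])
  obtain ⟨y, hydef⟩ : ∃ y : G, ((yY : Subgroup.centralizer ({z} : Set G)) : G) = y := ⟨_, rfl⟩
  have hgen : Y = Subgroup.zpowers (yY : Subgroup.centralizer ({z} : Set G)) :=
    (Subgroup.eq_of_le_of_card_ge (Subgroup.zpowers_le.mpr yY.2)
      (by rw [hY, Nat.card_zpowers, Subgroup.orderOf_coe, hyY])).symm
  have hY' : Y.map (Subgroup.subtype (Subgroup.centralizer ({z} : Set G))) = Subgroup.zpowers y := by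
    rw [hgen, MonoidHom.map_zpowers, ← hydef]; rfl
  have hy3 : y ^ 3 = 1 := by
    have := congrArg (fun c : Y => ((c : Subgroup.centralizer ({z} : Set G)) : G)) (pow_orderOf_eq_one yY)
    rw [hyY] at this
    simpa [← hydef] using this
  have hy1 : y ≠ 1 := fun e1 => by
    have : yY = 1 := Subtype.ext (Subtype.ext (hydef.trans e1))
    rw [this, orderOf_one] at hyY
    omega
  have hyz : y * z = z * y := by rw [← hydef]; exact mem_cent.mp (yY : Subgroup.centralizer ({z} : Set G)).2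
  have hcm : ⁅Q.map (Subgroup.subtype (Subgroup.centralizer ({z} : Set G))), Subgroup.zpowers y⁆ =
      (⁅Q, Y⁆).map (Subgroup.subtype (Subgroup.centralizer ({z} : Set G))) := by
    rw [Subgroup.map_commutator, hY']
  obtain ⟨π, M, T⟩ := exists_Y3 h₀ hyz hy3 hy1
    (by rw [hcm, Subgroup.card_map_of_injective (Subgroup.subtype_injective _), hQY])
    (by
      by_contra hall
      push Not at hall
      refine hQYna ⟨⟨fun a b => ?_⟩⟩
      refine Subtype.ext (Subtype.ext ?_)
      exact hall _ (by rw [hcm]; exact ⟨_, a.2, rfl⟩) _ (by rw [hcm]; exact ⟨_, b.2, rfl⟩))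
  obtain ⟨y₁, y₂, Cf⟩ := T.exists_cfg3
  set Y' := Y.map (Subgroup.subtype (Subgroup.centralizer ({z} : Set G))) with hY'def
  set C := Subgroup.centralizer ((Y' : Subgroup G) : Set G) with hCdef
  have hmemC : ∀ g, g ∈ C ↔ g * y = y * g := by
    intro g
    rw [hCdef, Subgroup.mem_centralizer_iff]
    refine ⟨fun h => (h y (by rw [SetLike.mem_coe, hY']; exact Subgroup.mem_zpowers y)).symm, fun h k hk => ?_⟩
    rw [SetLike.mem_coe, hY'] at hk
    obtain ⟨n, rfl⟩ := Subgroup.mem_zpowers_iff.mp hk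
    exact (Commute.zpow_right (h : Commute g y) n).eq.symm
  set N := Y'.subgroupOf C with hNdef
  have hN : ∀ g : C, g ∈ N ↔ ∃ i : ℕ, (g : G) = y ^ i := by
    intro g
    rw [hNdef, Subgroup.mem_subgroupOf, hY', ← mem_powers_iff_mem_zpowers, Submonoid.mem_powers_iff]
    exact ⟨fun ⟨i, h⟩ => ⟨i, h.symm⟩, fun ⟨i, h⟩ => ⟨i, h.symm⟩⟩
  let zC : C := ⟨z, (hmemC z).mpr hyz.symm⟩
  have Pj : Proj z y C (QuotientGroup.mk' N) zC :=
    ⟨hmemC, QuotientGroup.mk'_surjective N, fun g => (QuotientGroup.eq_one_iff g).trans (hN g), rfl⟩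
  obtain ⟨E⟩ := Cf.quotient_iso Pj hrec
  haveI hsimpleP : IsSimpleGroup (Cfsg.PSU 4 K 3) :=
    CfsgLib.UnitarySimple.simple (by rw [hK]; norm_num) (by norm_num) (by omega)
  haveI hsimple : IsSimpleGroup (C ⧸ N) := E.isSimpleGroup
  have hperf : commutator C = ⊤ := Cf.perfect Pj
  refine ⟨⟨⟨hperf⟩, ?_⟩, ⟨E⟩, ?_⟩
  · have hZ : Subgroup.center C = N := by
      refine le_antisymm ?_ fun g hg => Subgroup.mem_center_iff.mpr fun k => Subtype.ext ?_
      · have hbot : (Subgroup.center C).map (QuotientGroup.mk' N) = ⊥ := by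
          haveI := (inferInstance : (Subgroup.center C).Normal).map (QuotientGroup.mk' N) (QuotientGroup.mk'_surjective N)
          refine (IsSimpleGroup.eq_bot_or_eq_top_of_normal ((Subgroup.center C).map (QuotientGroup.mk' N)) this).resolve_right
            fun htop => ?_
          obtain ⟨q, r, -, -, -, -, hne⟩ := Cf.exists_pair Pj
          obtain ⟨c, hc, hcq⟩ : QuotientGroup.mk' N q ∈ (Subgroup.center C).map (QuotientGroup.mk' N) :=
            htop ▸ Subgroup.mem_top _
          refine hne ?_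
          rw [← hcq, ← map_mul, ← map_mul, (Subgroup.mem_center_iff.mp hc r).symm]
        intro g hg
        have : QuotientGroup.mk' N g ∈ (⊥ : Subgroup (C ⧸ N)) := hbot ▸ Subgroup.mem_map_of_mem _ hg
        exact (QuotientGroup.eq_one_iff g).mp (Subgroup.mem_bot.mp this)
      · obtain ⟨i, hi⟩ := (hN g).mp hg
        show (k : G) * g = g * k
        rw [hi]
        exact (Commute.pow_right ((hmemC k).mp k.2 : Commute (k : G) y) i).eq
    exact (QuotientGroup.quotientMulEquivOfEq hZ).isSimpleGroup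
  · obtain ⟨c, hc⟩ := T.exists_inverter
    have hnorm : ∀ g, g ∈ Subgroup.normalizer (Y' : Set G) → g * y * g⁻¹ = y ∨ g * y * g⁻¹ = y⁻¹ := by
      intro g hg
      have h1 : g * y * g⁻¹ ∈ Y' := (Subgroup.mem_normalizer_iff.mp hg y).mp (hY' ▸ Subgroup.mem_zpowers y)
      rw [hY', ← mem_powers_iff_mem_zpowers, Submonoid.mem_powers_iff] at h1
      obtain ⟨n, hn⟩ := h1
      rw [pow_eq_pow_mod n hy3] at hn
      rcases (show n % 3 = 0 ∨ n % 3 = 1 ∨ n % 3 = 2 by omega) with h2 | h2 | h2 <;> rw [h2] at hn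
      · rw [pow_zero] at hn; exact absurd (conj_eq_one_iff.mp hn.symm) hy1
      · rw [pow_one] at hn; exact Or.inl hn.symm
      · exact Or.inr (hn.symm.trans (eq_inv_of_mul_eq_one_left (by rw [← pow_succ, hy3])))
    have hcN : c ∈ Subgroup.normalizer (Y' : Set G) := by
      refine Subgroup.mem_normalizer_iff.mpr fun k => ?_
      rw [hY', Subgroup.mem_zpowers_iff, Subgroup.mem_zpowers_iff]
      constructor
      · rintro ⟨n, rfl⟩
        exact ⟨-n, by rw [← conj_zpow, hc, inv_zpow, zpow_neg]⟩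
      · rintro ⟨n, hn⟩
        refine ⟨-n, ?_⟩
        have h1 : c * y ^ (-n) * c⁻¹ = c * k * c⁻¹ := by
          rw [← conj_zpow, hc, inv_zpow', neg_neg, hn]
        exact mul_left_cancel (mul_right_cancel h1)
    rw [Subgroup.relIndex]
    refine Subgroup.index_eq_two_iff.mpr ⟨⟨c, hcN⟩, fun b => ?_⟩
    show Xor' ((b : G) * c ∈ C) ((b : G) ∈ C)
    have hyy : y ≠ y⁻¹ := fun e1 => hy1 (by
      have h2 : y ^ 2 = 1 := by rw [pow_two]; nth_rewrite 2 [e1]; rw [mul_inv_cancel]
      have := hy3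
      rw [pow_succ, h2, one_mul] at this
      exact this)
    rcases hnorm _ b.2 with hb | hb
    · refine Or.inr ⟨(hmemC _).mpr (conj_fix_iff.mp hb), fun h => hyy ?_⟩
      have h1 := conj_fix_iff.mpr ((hmemC _).mp h)
      rw [show (b : G) * c * y * ((b : G) * c)⁻¹ = ((b : G) * (c * y * c⁻¹) * (b : G)⁻¹) by group, hc,
        ← conj_inv, hb] at h1
      exact h1.symm
    · refine Or.inl ⟨(hmemC _).mpr (conj_fix_iff.mp ?_), fun h => hyy ?_⟩
      · rw [show (b : G) * c * y * ((b : G) * c)⁻¹ = ((b : G) * (c * y * c⁻¹) * (b : G)⁻¹) by group, hc,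
          ← conj_inv, hb, inv_inv]
      · exact (conj_fix_iff.mpr ((hmemC _).mp h)).symm.trans hb

end CfsgLib.SuzType.ThreeY
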